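import Groth.Agent.Etdl.H440.CFBC

/-!
# Tools for the calculus of `CF`

* `hom_ext_ZQ`: morphisms out of `L (ℤ[T] / ℤ[O])`;
* `isIso_kap`: `ℤ[T'] / ℤ[O'] ⟶ L (ℤ[T] / ℤ[O])` is an isomorphism if `T' ≅ v T`, `O' ≅ v O`;
* `shNT i w j`: the natural transformation `w_! i⁻¹ ⟶ j_!` for `w = i ≫ j`;
* `tr_beta`: `tr (betaNT ..)` factors through `w_!` of `q⁻¹ π⁻¹ ≅ i⁻¹ f⁻¹` and `tr (shNT ..)`;
* `fcl_eq`: the class attached to a chart as composite.
-/

set_option autoImplicit false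
set_option linter.dupNamespace false
set_option linter.unusedSectionVars false
universe u
open CategoryTheory CategoryTheory.Limits AlgebraicGeometry Opposite CategoryTheory.Abelian
open Groth.Agent.Sga4B.DualShape Groth.Agent.Sga4B.EUConst
open Groth.Agent.EtpbcB.BCCalc
open Groth.Agent.EtpbcA.OverSite (str)
open scoped Groth.Agent.Etcore.EtInst
open Groth.Agent.Etcore.EtInst
open Groth.Agent.Etcore.ExtMap (extMap extMap_apply)
open Groth.Agent.Etdl.H440.CF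

namespace Groth.Agent.Etdl.H2.CFTools

noncomputable section

variable {S P P' Y W X Q : Scheme.{u}}

/-- Morphisms out of `L (ℤ[T] / ℤ[O])`. -/
theorem hom_ext_ZQ (A : CF P P') {O T : P.Etale} (o : O ⟶ T) {H : EtCoh.Ab P'}
    {f g : A.L.obj (ZQ o) ⟶ H}
    (h : f.hom.app (op (A.v.obj T)) (A.un (qs o)) = g.hom.app (op (A.v.obj T)) (A.un (qs o))) :
    f = g := by
  apply (A.adj.homEquiv _ _).injective
  rw [Adjunction.homEquiv_unit, Adjunction.homEquiv_unit]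
  apply ZQ_hom_ext
  exact h

/-- Morphisms out of `L (ℤ[T] / ℤ[O])` attached to sections. -/
def qDesc (A : CF P P') {O T : P.Etale} (o : O ⟶ T) {H : EtCoh.Ab P'}
    (s : EtCoh.sect H (A.v.obj T)) (hs : H.obj.map (A.v.map o).op s = 0) : A.L.obj (ZQ o) ⟶ H :=
  A.desc (qHom o (G := (A.v.sheafPushforwardContinuous
    AddCommGrpCat.{u + 1} P.smallEtaleTopology P'.smallEtaleTopology).obj H) s hs)

theorem qDesc_un (A : CF P P') {O T : P.Etale} (o : O ⟶ T) {H : EtCoh.Ab P'}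
    (s : EtCoh.sect H (A.v.obj T)) (hs : H.obj.map (A.v.map o).op s = 0) :
    (qDesc A o s hs).hom.app (op (A.v.obj T)) (A.un (qs o)) = s := by
  refine (A.desc_un _ (qs o)).trans ?_
  exact qHom_qs o (G := (A.v.sheafPushforwardContinuous
    AddCommGrpCat.{u + 1} P.smallEtaleTopology P'.smallEtaleTopology).obj H) s hs

section kap

variable (A : CF P P') {O T : P.Etale} {o : O ⟶ T} {O' T' : P'.Etale} {o' : O' ⟶ T'}
    (τ : T' ⟶ A.v.obj T) (τ₀ : O' ⟶ A.v.obj O) (hτ : τ₀ ≫ A.v.map o = o' ≫ τ) [IsIso τ]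
    [IsIso τ₀]

include hτ in
theorem kap_aux : A.v.map o ≫ inv τ = inv τ₀ ≫ o' := by
  rw [IsIso.comp_inv_eq, Category.assoc, ← hτ, IsIso.inv_hom_id_assoc]

include hτ in
theorem kap_aux' : (ZQ o').obj.map (A.v.map o).op ((ZQ o').obj.map (inv τ).op (qs o')) = 0 := by
  rw [map_map, kap_aux A τ τ₀ hτ, ← map_map, qs_res, map_zero]

/-- The inverse of `kap`. -/
def kapInv : A.L.obj (ZQ o) ⟶ ZQ o' :=
  qDesc A o ((ZQ o').obj.map (inv τ).op (qs o')) (kap_aux' A τ τ₀ hτ)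

theorem kapInv_un : (kapInv A τ τ₀ hτ).hom.app (op (A.v.obj T)) (A.un (qs o)) =
    (ZQ o').obj.map (inv τ).op (qs o') := qDesc_un _ _ _ _

theorem kap_kapInv : kap (A₀ := A) (o := o) (o' := o') τ τ₀ hτ ≫ kapInv A τ τ₀ hτ = 𝟙 _ := by
  apply ZQ_hom_ext
  have hk := kap_qs (A₀ := A) (o := o) (o' := o') τ τ₀ hτ
  have h1 : (kap (A₀ := A) (o := o) (o' := o') τ τ₀ hτ ≫ kapInv A τ τ₀ hτ).hom.app (op T')
      (qs o') = (kapInv A τ τ₀ hτ).hom.app (op T')
        ((A.L.obj (ZQ o)).obj.map τ.op (A.un (qs o))) :=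
    congrArg ((kapInv A τ τ₀ hτ).hom.app (op T')) hk
  refine h1.trans ?_
  refine (ConcreteCategory.congr_hom ((kapInv A τ τ₀ hτ).hom.naturality τ.op)
    (A.un (qs o))).trans ?_
  refine (congrArg ((ZQ o').obj.map τ.op) (kapInv_un A τ τ₀ hτ)).trans ?_
  refine (map_map _ _ _ _).trans ?_
  rw [IsIso.hom_inv_id, op_id]
  exact ConcreteCategory.congr_hom ((ZQ o').obj.map_id (op T')) (qs o')

theorem kapInv_kap : kapInv A τ τ₀ hτ ≫ kap (A₀ := A) (o := o) (o' := o') τ τ₀ hτ = 𝟙 _ := by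
  apply hom_ext_ZQ A o
  have hk := kap_qs (A₀ := A) (o := o) (o' := o') τ τ₀ hτ
  have h1 : (kapInv A τ τ₀ hτ ≫ kap (A₀ := A) (o := o) (o' := o') τ τ₀ hτ).hom.app
      (op (A.v.obj T)) (A.un (qs o)) =
      (kap (A₀ := A) (o := o) (o' := o') τ τ₀ hτ).hom.app (op (A.v.obj T))
        ((ZQ o').obj.map (inv τ).op (qs o')) :=
    congrArg ((kap (A₀ := A) (o := o) (o' := o') τ τ₀ hτ).hom.app (op (A.v.obj T)))
      (kapInv_un A τ τ₀ hτ)
  refine h1.trans ?_
  refine (ConcreteCategory.congr_hom ((kap (A₀ := A) (o := o) (o' := o') τ τ₀ hτ).hom.naturality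
    (inv τ).op) (qs o')).trans ?_
  refine (congrArg ((A.L.obj (ZQ o)).obj.map (inv τ).op) hk).trans ?_
  refine (map_map _ _ _ _).trans ?_
  rw [IsIso.inv_hom_id, op_id]
  exact ConcreteCategory.congr_hom ((A.L.obj (ZQ o)).obj.map_id (op (A.v.obj T))) (A.un (qs o))

theorem isIso_kap : IsIso (kap (A₀ := A) (o := o) (o' := o') τ τ₀ hτ) :=
  ⟨kapInv A τ τ₀ hτ, kap_kapInv A τ τ₀ hτ, kapInv_kap A τ τ₀ hτ⟩

end kap

/-- `(w_! i⁻¹) ⟶ j_!` for `w = i ≫ j`. -/
def shNT (i : W ⟶ X) (w : W ⟶ Y) [Etale w] (j : X ⟶ Y) [Etale j] (h : i ≫ j = w) :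
    (efCF i w).v ⟶ (shCF j).v where
  app U := MorphismProperty.Over.homMk (A := (EtShriek.compEtale w).obj ((EtCoh.bc i).obj U))
    (B := (EtShriek.compEtale j).obj U) (pr i U) (by
      change pr i U ≫ U.hom ≫ j = ((EtCoh.bc i).obj U).hom ≫ w
      rw [← Category.assoc, pr_hom, Category.assoc, h]) trivial
  naturality U V g := MorphismProperty.Over.Hom.ext (bc_map_left_pr i g)

theorem shNT_left (i : W ⟶ X) (w : W ⟶ Y) [Etale w] (j : X ⟶ Y) [Etale j] (h : i ≫ j = w)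
    (U : X.Etale) : ((shNT i w j h).app U).left = pr i U := rfl

/-- Factorisation of natural transformations. -/
theorem tr_fac {A : CF W Y} {A₀ : CF P W} {Pi : CF S P} {A₁ : CF X W} {F : CF S X} {J : CF X Y}
    (β : (Pi.comp (A₀.comp A)).v ⟶ (F.comp J).v) (ε : (Pi.comp A₀).v ⟶ (F.comp A₁).v)
    (θ : (A₁.comp A).v ⟶ J.v)
    (h : ∀ V : S.Etale, β.app V = A.v.map (ε.app V) ≫ θ.app (F.v.obj V)) (M : EtCoh.Ab S) :
    (CF.tr β).app M = A.L.map ((CF.tr ε).app M) ≫ (CF.tr θ).app (F.L.obj M) := by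
  apply CF.hom_ext (Pi.comp (A₀.comp A))
  intro V s
  have e0 : (Pi.comp (A₀.comp A)).un s = A.un (A₀.un (Pi.un s)) :=
    (CF.comp_un Pi (A₀.comp A) s).trans (CF.comp_un A₀ A (Pi.un s))
  have l1 : ((CF.tr β).app M).hom.app (op ((Pi.comp (A₀.comp A)).v.obj V))
      ((Pi.comp (A₀.comp A)).un s) =
      (J.L.obj (F.L.obj M)).obj.map (β.app V).op (J.un (F.un s)) := by
    refine (CF.tr_un β s).trans ?_
    exact congrArg ((J.L.obj (F.L.obj M)).obj.map (β.app V).op) (CF.comp_un F J s)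
  have r1 : (A.L.map ((CF.tr ε).app M)).hom.app (op (A.v.obj (A₀.v.obj (Pi.v.obj V))))
      (A.un (A₀.un (Pi.un s))) =
      (A.L.obj (A₁.L.obj (F.L.obj M))).obj.map (A.v.map (ε.app V)).op
        (A.un (A₁.un (F.un s))) := by
    refine (A.map_un ((CF.tr ε).app M) (A₀.un (Pi.un s))).trans ?_
    have := CF.tr_un ε s
    rw [CF.comp_un, CF.comp_un] at this
    refine (congrArg A.un this).trans ?_
    exact A.un_res (ε.app V) _
  have r2 : ((CF.tr θ).app (F.L.obj M)).hom.app (op (A.v.obj (A₁.v.obj (F.v.obj V))))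
      (A.un (A₁.un (F.un s))) =
      (J.L.obj (F.L.obj M)).obj.map (θ.app (F.v.obj V)).op (J.un (F.un s)) := by
    have := CF.tr_un θ (F.un s)
    rw [CF.comp_un] at this
    exact this
  refine l1.trans ?_
  symm
  refine (congrArg (fun z => ((CF.tr θ).app (F.L.obj M)).hom.app _
    ((A.L.map ((CF.tr ε).app M)).hom.app _ z)) e0).trans ?_
  refine (congrArg (((CF.tr θ).app (F.L.obj M)).hom.app _) r1).trans ?_
  refine (ConcreteCategory.congr_hom (((CF.tr θ).app (F.L.obj M)).hom.naturality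
      (A.v.map (ε.app V)).op) (A.un (A₁.un (F.un s)))).trans ?_
  refine (congrArg ((J.L.obj (F.L.obj M)).obj.map (A.v.map (ε.app V)).op) r2).trans ?_
  refine (map_map (J.L.obj (F.L.obj M)) (θ.app (F.v.obj V)) (A.v.map (ε.app V))
    (J.un (F.un s))).trans ?_
  exact congrArg (fun k => (J.L.obj (F.L.obj M)).obj.map k.op (J.un (F.un s))) (h V).symm

section beta

variable (π : P ⟶ S) (q : W ⟶ P) (w : W ⟶ Y) [Etale w] (f : X ⟶ S) (j : X ⟶ Y) [Etale j]
  (i : W ⟶ X) (h1 : i ≫ j = w) (h2 : i ≫ f = q ≫ π)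

theorem betaNT_fac (V : S.Etale) :
    (betaNT π q w f j i h1 h2).app V =
      (shCF w).v.map ((epsNT π q f i h2).app V) ≫ (shNT i w j h1).app ((EtCoh.bc f).obj V) := by
  apply e_hom_ext
  · refine (betaNT_eT π q w f j i h1 h2 V).trans ?_
    exact ((Category.assoc _ _ _).trans (epsNT_pr π q f i h2 V)).symm
  · refine (betaNT_eW π q w f j i h1 h2 V).trans ?_
    have e1 : pr i ((EtCoh.bc f).obj V) ≫ ((EtCoh.bc f).obj V).hom =
      ((EtCoh.bc i).obj ((EtCoh.bc f).obj V)).hom ≫ i := pr_hom i _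
    have e2 : ((epsNT π q f i h2).app V).left ≫ ((EtCoh.bc i).obj ((EtCoh.bc f).obj V)).hom =
      ((EtCoh.bc q).obj ((EtCoh.bc π).obj V)).hom := left_hom ((epsNT π q f i h2).app V)
    symm
    refine (Category.assoc _ _ _).trans ?_
    refine (congrArg (((epsNT π q f i h2).app V).left ≫ ·) e1).trans ?_
    refine (Category.assoc _ _ _).symm.trans ?_
    exact congrArg (· ≫ i) e2

theorem tr_beta (M : EtCoh.Ab S) : (CF.tr (betaNT π q w f j i h1 h2)).app M =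
    (EtShriek.extZero w).map ((CF.tr (epsNT π q f i h2)).app M) ≫
      (CF.tr (shNT i w j h1)).app ((EtCoh.pull f).obj M) :=
  tr_fac (A := shCF w) (A₀ := pullCF q) (Pi := pullCF π) (A₁ := pullCF i) (F := pullCF f)
    (J := shCF j) (betaNT π q w f j i h1 h2) (epsNT π q f i h2) (shNT i w j h1)
    (betaNT_fac π q w f j i h1 h2) M

/-- `q⁻¹ π⁻¹ ≅ i⁻¹ f⁻¹`. -/
def epsIso : ((pullCF π).comp (pullCF q)).v ≅ ((pullCF f).comp (pullCF i)).v :=
  NatIso.ofComponents (fun V => theta h2 V) (fun g => (epsNT π q f i h2).naturality g)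

theorem isIso_tr_eps (M : EtCoh.Ab S) : IsIso ((CF.tr (epsNT π q f i h2)).app M) := by
  have h : epsNT π q f i h2 = (epsIso π q f i h2).hom := rfl
  rw [h]
  exact inferInstanceAs (IsIso ((CF.trIso (epsIso π q f i h2)).hom.app M))

end beta

section cl

variable {A : CF P Y} {A₀ : CF Q P}

/-- The class attached to `κ⁻¹ s`. -/
theorem cl_inv {B : EtCoh.Ab P} {C E : EtCoh.Ab Q} (κ : B ⟶ A₀.L.obj C) (κ' : A₀.L.obj C ⟶ B)
    (hκ : κ' ≫ κ = 𝟙 _) {R : Y.Etale} (s : EtCoh.sect ((A₀.comp A).L.obj C) R) (N : ℕ)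
    (x : Ext.{u + 1} C E N) :
    A.cl ((A.L.map κ').hom.app (op R) s) N (extMap A₀.L κ E N x) = (A₀.comp A).cl s N x := by
  refine (CF.cl_extMap A A₀ _ N κ x).trans ?_
  have h : (A.L.map κ).hom.app (op R) ((A.L.map κ').hom.app (op R) s) = s := by
    have h1 : A.L.map κ' ≫ A.L.map κ = 𝟙 _ := by
      rw [← Functor.map_comp, hκ, CategoryTheory.Functor.map_id]
    exact congrArg (fun k => k.hom.app (op R) s) h1
  rw [h]

end cl

end

end Groth.Agent.Etdl.H2.CFTools
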