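import Groth.Agent.Etdl.H2.PhiAdj
import Groth.Agent.Etdl.H424.ModLift
import Groth.Agent.Etrest.ExtZeroComp
import Groth.Agent.EtSix.H42.PairAbs
import Groth.Agent.EtSix.H42.TateK
import Groth.Agent.Sga4B.DualAsm

/-!
# Duality with a bijective trace for etale schemes

`DualTr v n N`: there are a sheaf `K ≅ ℤ/n` of `ℤ/n`-modules on `V` and a bijective
`tr : H^N(P, v_! K) → ℤ/n` such that `Ext^q(F, K) → Hom(H^m(P, v_! F), ℤ/n)` is bijective for all `F` and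
`m + q = N`.

* `DualTr.comp`: `DualTr j n N` implies `DualTr (w ≫ j) n N` for `w` etale with connected source.
-/

set_option autoImplicit false
set_option linter.unusedSectionVars false
universe u

open CategoryTheory CategoryTheory.Limits CategoryTheory.Abelian AlgebraicGeometry Opposite
open Groth.Agent.Etrest.ModAb Groth.Agent.Sga4B Groth.Agent.Sga4h.BidGlobPkg
open Groth.Agent.Sga4B.DualShape Groth.Agent.Sga4B.DualAsm Groth.Agent.Sga4B.LMLS
open Groth.Agent.Sga4h.ModRestr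

namespace Groth.Agent.Etdl.H2.DualEt

/-- Duality with a bijective trace. -/
def DualTr {V P : Scheme.{u}} (v : V ⟶ P) [Etale v] (n N : ℕ) : Prop :=
  ∃ (K : EtModW.Mod (Lam.{u} n) V) (tr : Ext.{u + 1} (Z P) ((Psi v n).obj K) N →+ E.{u} n),
    Function.Bijective tr ∧
    (∀ (q m : ℕ) (h : m + q = N) (F : EtModW.Mod (Lam.{u} n) V),
      Function.Bijective (DualFormal.phi (Psi v n) (Z P) tr F h)) ∧
    Nonempty (EtSix.constΛ (ULift.{u + 1} (ZMod n)) V ≅ K)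

variable {V X P : Scheme.{u}} (w : V ⟶ X) [Etale w] (j : X ⟶ P) [Etale j] (n N : ℕ)

/-- `w_! ⋙ (ab ⋙ j_!) ≅ ab ⋙ (w ≫ j)_!`. -/
noncomputable def tau : ext (Lam.{u} n) w ⋙ Psi j n ≅ Psi (w ≫ j) n :=
  Functor.isoWhiskerRight (Etdl.H424.ModLift.extAbIso (Lam.{u} n) w) (EtShriek.extZero j) ≪≫
    Functor.isoWhiskerLeft (ab (Lam.{u} n) V) (Etrest.ExtZeroComp.extZeroComp w j)

theorem DualTr.comp (hn : 0 < n) [ConnectedSpace V] (h : DualTr j n N) : DualTr (w ≫ j) n N := by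
  obtain ⟨K, tr, -, h2, ⟨e⟩⟩ := h
  have hphi : ∀ (q m : ℕ) (h : m + q = N) (F : EtModW.Mod (Lam.{u} n) V),
      Function.Bijective (DualFormal.phi (Psi (w ≫ j) n) (Z P)
        (PhiAdj.trAdj (extResAdj (Lam.{u} n) w) (Psi j n) (Psi (w ≫ j) n) (tau w j n) (Z P) tr)
        F h) := fun q m h F =>
    PhiAdj.bijective_phi (extResAdj (Lam.{u} n) w) (Psi j n) (Psi (w ≫ j) n) (tau w j n) (Z P) tr
      F h (h2 q m h _)
  have e' : EtSix.constΛ (ULift.{u + 1} (ZMod n)) V ≅ (res (Lam.{u} n) w).obj K :=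
    (resConst (Lam.{u} n) w (Lam.{u} n)).symm ≪≫ (res (Lam.{u} n) w).mapIso e
  obtain ⟨φ⟩ := EtSix.H42.TateK.nonempty_end e'
  refine ⟨(res (Lam.{u} n) w).obj K, _, ?_, hphi, ⟨e'⟩⟩
  exact EtSix.H42.PairAbs.bijective_tr (Psi (w ≫ j) n) (Z P) _ hn (hphi 0 N (add_zero _) _)
    (EtSix.H42.TateK.exists_zsmul hn φ) (EtSix.H42.TateK.dvd_of_zsmul φ)
    (fun x => DualAsm.nsmul_ext (w ≫ j) _ N x)

end Groth.Agent.Etdl.H2.DualEt
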