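import Groth.Agent.Sga4B.JFComp
import Groth.Agent.EtpbcA.StalkTools
import Mathlib.CategoryTheory.Sites.Point.Skyscraper

/-!
# Stalks of `M[U] / M[U₀]`

For `g : U₀ ⟶ U` in the small etale site of `X` and `Q = M[U] / M[U₀]` (the cokernel of `(JF X M).map g`):
* `germ_eq_zero`: the germs of the canonical sections at the points of `U` coming from `U₀` vanish;
* `isZero_stalk`: `Q_ξ = 0` if all points of `U` over `ξ` come from `U₀`;
* `bijective_germ`: if exactly one point `t` of `U` over `ξ` does not come from `U₀`, then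
  `M → Q_ξ`, `m ↦ germ_t (class of m)`, is bijective.
-/

set_option autoImplicit false
set_option linter.unusedSectionVars false
universe u

open CategoryTheory CategoryTheory.Limits AlgebraicGeometry Opposite
open Groth.Agent.EtpbcA Groth.Agent.EtpbcA.StalkTools Groth.Agent.Sga4B.DualShape

namespace Groth.Agent.Etdl.H2.StalkCoker

variable {X : Scheme.{u}} (M : Type) [AddCommGroup M] {U₀ U : X.Etale} (g : U₀ ⟶ U)

/-- The sheaf `M[U] / M[U₀]`. -/
noncomputable abbrev Q : EtCoh.Ab X := cokernel ((JF X M).map g)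

/-- The canonical section of `M[U] / M[U₀]` over `U` attached to `m : M`. -/
noncomputable def qsec : M →+ EtCoh.sect (Q M g) U :=
  ((cokernel.π ((JF X M).map g)).hom.app (op U)).hom.comp (Jshriek.univ U M)

theorem qsec_apply (m : M) : qsec M g m =
    (cokernel.π ((JF X M).map g)).hom.app (op U) (Jshriek.univ U M m) := rfl

theorem map_qsec (m : M) : (Q M g).obj.map g.op (qsec M g m) = 0 := by
  have h1 := ConcreteCategory.congr_hom ((cokernel.π ((JF X M).map g)).hom.naturality g.op)
    (Jshriek.univ U M m)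
  have h2 : (cokernel.π ((JF X M).map g)).hom.app (op U₀)
      (((JF X M).obj U).obj.map g.op (Jshriek.univ U M m)) =
      (Q M g).obj.map g.op (qsec M g m) := h1
  rw [← h2]
  have h3 : ((JF X M).map g).hom.app (op U₀) (Jshriek.univ U₀ M m) =
    ((JF X M).obj U).obj.map g.op (Jshriek.univ U M m) := jMap_univ M g m
  rw [← h3]
  have h4 := congrArg (fun k => k.hom.app (op U₀) (Jshriek.univ U₀ M m))
    (cokernel.condition ((JF X M).map g))
  exact h4

theorem hom_ext {G : EtCoh.Ab X} {α β : Q M g ⟶ G}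
    (h : ∀ m, α.hom.app (op U) (qsec M g m) = β.hom.app (op U) (qsec M g m)) : α = β := by
  rw [← cancel_epi (cokernel.π ((JF X M).map g))]
  exact Jshriek.hom_ext U h

/-- The morphism `M[U] / M[U₀] ⟶ G` attached to `M → G(U)` with values in the sections vanishing on `U₀`. -/
noncomputable def desc {G : EtCoh.Ab X} (φ : M →+ EtCoh.sect G U)
    (h : ∀ m, G.obj.map g.op (φ m) = 0) : Q M g ⟶ G :=
  cokernel.desc _ (Jshriek.lift U φ) (by
    rw [Sga4B.JFComp.jMap_lift]
    refine Jshriek.hom_ext U₀ (fun m => ?_)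
    rw [Jshriek.lift_univ]
    exact h m)

theorem desc_qsec {G : EtCoh.Ab X} (φ : M →+ EtCoh.sect G U)
    (h : ∀ m, G.obj.map g.op (φ m) = 0) (m : M) :
    (desc M g φ h).hom.app (op U) (qsec M g m) = φ m := by
  have h1 : cokernel.π ((JF X M).map g) ≫ desc M g φ h = Jshriek.lift U φ := cokernel.π_desc _ _ _
  have h2 := congrArg (fun k => k.hom.app (op U) (Jshriek.univ U M m)) h1
  exact h2.trans (Jshriek.lift_univ U φ m)

variable {Ω : Type u} [Field Ω] [IsSepClosed Ω] (ξ : Spec (CommRingCat.of Ω) ⟶ X)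

theorem germ_eq_zero (y : (Scheme.pointSmallEtale ξ).fiber.obj U₀) (m : M) :
    germ ξ ((Scheme.pointSmallEtale ξ).fiber.map g y) (qsec M g m) = 0 := by
  rw [← germ_res, map_qsec]
  exact map_zero _

/-- Morphisms from the stalk are determined by the germs of the canonical sections. -/
theorem stalk_hom_ext {B : AddCommGrpCat.{u + 1}} {f f' : (EtCoh.stalk ξ).obj (Q M g) ⟶ B}
    (h : ∀ (t : (Scheme.pointSmallEtale ξ).fiber.obj U) (m : M),
      f (germ ξ t (qsec M g m)) = f' (germ ξ t (qsec M g m))) : f = f' := by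
  let G : EtCoh.Ab X := (Scheme.pointSmallEtale ξ).skyscraperSheafFunctor.obj B
  let α : Q M g ⟶ G := ⟨(Scheme.pointSmallEtale ξ).skyscraperPresheafHomEquiv f⟩
  let β : Q M g ⟶ G := ⟨(Scheme.pointSmallEtale ξ).skyscraperPresheafHomEquiv f'⟩
  have key : ∀ (f : (EtCoh.stalk ξ).obj (Q M g) ⟶ B) (t : (Scheme.pointSmallEtale ξ).fiber.obj U)
      (m : M), Pi.π (fun (_ : (Scheme.pointSmallEtale ξ).fiber.obj U) => B) t
        (((Scheme.pointSmallEtale ξ).skyscraperPresheafHomEquiv f).app (op U) (qsec M g m)) =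
        f (germ ξ t (qsec M g m)) := fun f t m =>
    ConcreteCategory.congr_hom
      ((Scheme.pointSmallEtale ξ).skyscraperPresheafHomEquiv_app_π f U t) (qsec M g m)
  have h1 : α = β := by
    apply hom_ext
    intro m
    refine Concrete.limit_ext _ _ _ ?_
    rintro ⟨t⟩
    exact (key f t m).trans ((h t m).trans (key f' t m).symm)
  have h2 : (Scheme.pointSmallEtale ξ).skyscraperPresheafHomEquiv f =
      (Scheme.pointSmallEtale ξ).skyscraperPresheafHomEquiv f' := congrArg (fun k => k.hom) h1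
  exact (Scheme.pointSmallEtale ξ).skyscraperPresheafHomEquiv.injective h2

theorem isZero_stalk (h : Function.Surjective ((Scheme.pointSmallEtale ξ).fiber.map g)) :
    IsZero ((EtCoh.stalk ξ).obj (Q M g)) := by
  rw [IsZero.iff_id_eq_zero]
  apply stalk_hom_ext
  intro t m
  obtain ⟨y, rfl⟩ := h t
  rw [germ_eq_zero]
  exact (map_zero _).trans (map_zero _).symm

/-- Morphisms from the stalk with given values on the germs at `t`. -/
theorem exists_hom (t : (Scheme.pointSmallEtale ξ).fiber.obj U)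
    (ht : ∀ y, (Scheme.pointSmallEtale ξ).fiber.map g y ≠ t) {B : AddCommGrpCat.{u + 1}}
    (c : M →+ B) : ∃ f : (EtCoh.stalk ξ).obj (Q M g) ⟶ B, ∀ m, f (germ ξ t (qsec M g m)) = c m := by
  classical
  let G : EtCoh.Ab X := (Scheme.pointSmallEtale ξ).skyscraperSheafFunctor.obj B
  let c' : AddCommGrpCat.of (ULift.{u + 1} M) ⟶ B :=
    AddCommGrpCat.ofHom (c.comp AddEquiv.ulift.toAddMonoidHom)
  let ψ : AddCommGrpCat.of (ULift.{u + 1} M) ⟶
      ∏ᶜ (fun (_ : (Scheme.pointSmallEtale ξ).fiber.obj U) => B) :=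
    Pi.lift (fun t' => if t' = t then c' else 0)
  let φ : M →+ EtCoh.sect G U := ψ.hom.comp AddEquiv.ulift.symm.toAddMonoidHom
  have hφ : ∀ m, G.obj.map g.op (φ m) = 0 := by
    intro m
    refine Concrete.limit_ext _ _ _ ?_
    rintro ⟨y⟩
    have e1 : (Pi.π (fun (_ : (Scheme.pointSmallEtale ξ).fiber.obj U₀) => B) y)
        (G.obj.map g.op (φ m)) =
        (Pi.π (fun (_ : (Scheme.pointSmallEtale ξ).fiber.obj U) => B)
          ((Scheme.pointSmallEtale ξ).fiber.map g y)) (φ m) := by
      have := (Pi.map'_comp_π (f := fun _ : (Scheme.pointSmallEtale ξ).fiber.obj U => B)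
        (g := fun _ : (Scheme.pointSmallEtale ξ).fiber.obj U₀ => B)
        (fun y => (Scheme.pointSmallEtale ξ).fiber.map g y) (fun _ => 𝟙 B) y)
      exact (ConcreteCategory.congr_hom this (φ m)).trans rfl
    refine e1.trans ?_
    have e2 : ψ ≫ Pi.π (fun (_ : (Scheme.pointSmallEtale ξ).fiber.obj U) => B)
        ((Scheme.pointSmallEtale ξ).fiber.map g y) = 0 := by
      rw [Pi.lift_π, if_neg (ht y)]
    exact (ConcreteCategory.congr_hom e2 ⟨m⟩).trans
      (map_zero (Pi.π (fun (_ : (Scheme.pointSmallEtale ξ).fiber.obj U₀) => B) y).hom).symm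
  let α : Q M g ⟶ G := desc M g φ hφ
  refine ⟨(Scheme.pointSmallEtale ξ).skyscraperPresheafHomEquiv.symm α.hom, fun m => ?_⟩
  have e1 := ConcreteCategory.congr_hom
    ((Scheme.pointSmallEtale ξ).toPresheafFiber_skyscraperPresheafHomEquiv_symm α.hom U t) (qsec M g m)
  refine e1.trans ?_
  change Pi.π (fun (_ : (Scheme.pointSmallEtale ξ).fiber.obj U) => B) t
    (α.hom.app (op U) (qsec M g m)) = _
  rw [desc_qsec]
  have e2 : ψ ≫ Pi.π (fun (_ : (Scheme.pointSmallEtale ξ).fiber.obj U) => B) t = c' := by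
    rw [Pi.lift_π, if_pos rfl]
  exact ConcreteCategory.congr_hom e2 ⟨m⟩

/-- The stalk of `M[U] / M[U₀]` when there is exactly one point of `U` over `ξ` not coming from `U₀`. -/
theorem bijective_germ (t : (Scheme.pointSmallEtale ξ).fiber.obj U)
    (ht : ∀ y, (Scheme.pointSmallEtale ξ).fiber.map g y ≠ t)
    (ht' : ∀ t', t' ≠ t → ∃ y, (Scheme.pointSmallEtale ξ).fiber.map g y = t') :
    Function.Bijective (fun m : M => germ ξ t (qsec M g m)) := by
  constructor
  · obtain ⟨f, hf⟩ := exists_hom M g ξ t ht (B := AddCommGrpCat.of (ULift.{u + 1} M))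
      AddEquiv.ulift.symm.toAddMonoidHom
    intro m m' h
    have h1 := congrArg f h
    dsimp only at h1
    rw [hf, hf] at h1
    exact AddEquiv.ulift.symm.injective h1
  · let γ : M →+ (EtCoh.stalk ξ).obj (Q M g) :=
      AddMonoidHom.mk' (fun m => germ ξ t (qsec M g m)) (fun a b => by
        rw [map_add]
        exact map_add _ _ _)
    let q : (EtCoh.stalk ξ).obj (Q M g) ⟶ AddCommGrpCat.of
        ((EtCoh.stalk ξ).obj (Q M g) ⧸ γ.range) := AddCommGrpCat.ofHom (QuotientAddGroup.mk' γ.range)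
    have hq : q = 0 := by
      apply stalk_hom_ext
      intro t' m
      by_cases h : t' = t
      · subst h
        exact (QuotientAddGroup.eq_zero_iff _).2 ⟨m, rfl⟩
      · obtain ⟨y, rfl⟩ := ht' t' h
        rw [germ_eq_zero]
        exact (map_zero _).trans (map_zero _).symm
    intro a
    have h1 : q a = 0 := by
      rw [hq]
      rfl
    exact (QuotientAddGroup.eq_zero_iff _).1 h1

end Groth.Agent.Etdl.H2.StalkCoker
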