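import Groth.Agent.Etcore.ModExt
import Groth.Agent.Etcore.ExtMap
import Groth.Agent.Etdl.H2.StalkCoker

/-!
# `Ext` from `Λ[U] / Λ[U₀]` in sheaves of modules and from `ℤ[U] / ℤ[U₀]` in abelian sheaves

* `mono_jMap`: `M[U₀] ⟶ M[U]` is a monomorphism for `g : U₀ ⟶ U` a monomorphism (`M ≃+ Λ`);
* `QM Λ g = Λ[U] / Λ[U₀]`, `cQ : ℤ[U] / ℤ[U₀] ⟶ (Λ[U] / Λ[U₀])^ab`;
* `bijective_extMap`: `Ext^q(Λ[U] / Λ[U₀], F) → Ext^q(ℤ[U] / ℤ[U₀], F^ab)` is bijective.
-/

set_option autoImplicit false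
set_option linter.unusedSectionVars false
universe u

open CategoryTheory CategoryTheory.Limits AlgebraicGeometry Opposite CategoryTheory.Abelian
open Groth.Agent.EtpbcA Groth.Agent.Etcore Groth.Agent.Etcore.LVan Groth.Agent.Etcore.LFree
open Groth.Agent.Sga4B.DualShape Groth.Agent.Etrest Groth.Agent.Etcore.ModExt

namespace Groth.Agent.Etdl.H2.ExtC

variable {Λ : Type (u + 1)} [CommRing Λ] {X : Scheme.{u}} {U₀ U : X.Etale} (g : U₀ ⟶ U)

/-- `M[U] ≅ (Λ[U])^ab`. -/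
noncomputable abbrev jiso {M : Type} [AddCommGroup M] (e : M ≃+ Λ) (U : X.Etale) :
    (JF X M).obj U ≅ (ModAb.ab Λ X).obj (LM Λ U) := isoAb e U

theorem jiso_nat {M : Type} [AddCommGroup M] (e : M ≃+ Λ) :
    (JF X M).map g ≫ (jiso e U).hom = (jiso e U₀).hom ≫ (ModAb.ab Λ X).map (map g) :=
  isoAbHom_nat e g

/-- `M[U₀] ⟶ M[U]` is a monomorphism if `U₀ ⟶ U` is. -/
theorem mono_jMap [Mono g] {M : Type} [AddCommGroup M] (e : M ≃+ Λ) : Mono ((JF X M).map g) := by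
  have h1 : Mono (map (Λ := Λ) g) := LFreeGen.mono_map g
  have h2 : Mono ((ModAb.ab Λ X).map (map (Λ := Λ) g)) := inferInstance
  have h4 : Mono ((JF X M).map g ≫ (jiso e U).hom) := by
    rw [jiso_nat]
    infer_instance
  exact mono_of_mono _ (jiso e U).hom

instance mono_ZSmap [Mono g] : Mono ((JF X ℤ).map g) :=
  mono_jMap (Λ := ULift.{u + 1} ℤ) g AddEquiv.ulift.symm

/-- The sequence `0 → ℤ[U₀] → ℤ[U] → ℤ[U] / ℤ[U₀] → 0`. -/
noncomputable def seqZ : ShortComplex (EtCoh.Ab X) :=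
  ShortComplex.mk ((JF X ℤ).map g) (cokernel.π ((JF X ℤ).map g)) (cokernel.condition _)

theorem shortExact_seqZ [Mono g] : (seqZ g).ShortExact :=
  { exact := ShortComplex.exact_cokernel _
    mono_f := mono_ZSmap g
    epi_g := inferInstanceAs (Epi (cokernel.π ((JF X ℤ).map g))) }

variable (Λ) in
/-- `Λ[U] / Λ[U₀]`. -/
noncomputable abbrev QM : EtModW.Mod Λ X := cokernel (map (Λ := Λ) g)

/-- `ℤ[U] / ℤ[U₀]`. -/
noncomputable abbrev QZ : EtCoh.Ab X := StalkCoker.Q ℤ g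

variable (Λ) in
/-- `ℤ[U] ⟶ (Λ[U])^ab`. -/
noncomputable def cz (U : X.Etale) : (JF X ℤ).obj U ⟶ (ModAb.ab Λ X).obj (LM Λ U) := cZ U

theorem cz_univ (U : X.Etale) : (cz Λ U).hom.app (op U) (Jshriek.univ U ℤ 1) = gen Λ U :=
  cZ_zgen U

theorem cz_nat : (JF X ℤ).map g ≫ cz Λ U = cz Λ U₀ ≫ (ModAb.ab Λ X).map (map g) := cZ_nat g

theorem cz_bijective (U : X.Etale) (F : EtModW.Mod Λ X) :
    Function.Bijective (fun α : LM Λ U ⟶ F => cz Λ U ≫ (ModAb.ab Λ X).map α) := cZ_bijective U F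

theorem ext_van (U : X.Etale) (I : EtModW.Mod Λ X) [Injective I] (q : ℕ)
    (e : Ext.{u + 1} ((JF X ℤ).obj U) ((ModAb.ab Λ X).obj I) (q + 1)) : e = 0 :=
  ext_ab_injective U I q e

theorem condition :
    (JF X ℤ).map g ≫ cz Λ U ≫ (ModAb.ab Λ X).map (cokernel.π (map (Λ := Λ) g)) = 0 := by
  rw [← Category.assoc, cz_nat, Category.assoc, ← Functor.map_comp, cokernel.condition,
    Functor.map_zero, comp_zero]

variable (Λ) in
/-- The map `ℤ[U] / ℤ[U₀] ⟶ (Λ[U] / Λ[U₀])^ab`. -/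
noncomputable def cQ : QZ g ⟶ (ModAb.ab Λ X).obj (QM Λ g) :=
  cokernel.desc _ (cz Λ U ≫ (ModAb.ab Λ X).map (cokernel.π (map (Λ := Λ) g))) (condition g)

theorem π_cQ : cokernel.π ((JF X ℤ).map g) ≫ cQ Λ g =
    cz Λ U ≫ (ModAb.ab Λ X).map (cokernel.π (map (Λ := Λ) g)) := cokernel.π_desc _ _ _

theorem bijective_hom (F : EtModW.Mod Λ X) : Function.Bijective
    (fun α : QM Λ g ⟶ F => cQ Λ g ≫ (ModAb.ab Λ X).map α) := by
  constructor
  · intro α β h
    dsimp only at h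
    rw [← cancel_epi (cokernel.π (map (Λ := Λ) g))]
    apply (cz_bijective U F).1
    dsimp only
    rw [Functor.map_comp, Functor.map_comp, ← Category.assoc, ← Category.assoc, ← π_cQ,
      Category.assoc, Category.assoc, h]
  · intro β
    obtain ⟨α₀, hα₀⟩ := (cz_bijective U F).2 (cokernel.π ((JF X ℤ).map g) ≫ β)
    dsimp only at hα₀
    have h1 : map (Λ := Λ) g ≫ α₀ = 0 := by
      apply (cz_bijective U₀ F).1
      dsimp only
      rw [Functor.map_comp, ← Category.assoc, ← cz_nat, Category.assoc, hα₀, ← Category.assoc,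
        cokernel.condition, zero_comp, Functor.map_zero, comp_zero]
    refine ⟨cokernel.desc _ α₀ h1, ?_⟩
    dsimp only
    rw [← cancel_epi (cokernel.π ((JF X ℤ).map g)), ← Category.assoc, π_cQ, Category.assoc,
      ← Functor.map_comp, cokernel.π_desc, hα₀]

theorem ext_eq_zero [Mono g] (I : EtModW.Mod Λ X) [Injective I] (q : ℕ)
    (e : Ext.{u + 1} (QZ g) ((ModAb.ab Λ X).obj I) (q + 1)) : e = 0 := by
  obtain ⟨x₁, hx₁⟩ := Ext.contravariant_sequence_exact₃ (shortExact_seqZ g) _ e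
    (ext_van U I q _) (add_comm 1 q)
  rw [← hx₁]
  cases q with
  | succ q =>
    have h0 : x₁ = 0 := ext_van U₀ I q x₁
    rw [h0]
    exact (shortExact_seqZ g).extClass.comp_zero _ _ _ _
  | zero =>
    obtain ⟨β, rfl⟩ := (Ext.mk₀_bijective _ _).2 x₁
    obtain ⟨α₀, hα₀⟩ := (cz_bijective U₀ I).2 β
    dsimp only at hα₀
    have h1 : Mono (map (Λ := Λ) g) := LFreeGen.mono_map g
    have h2 : map (Λ := Λ) g ≫ Injective.factorThru α₀ (map (Λ := Λ) g) = α₀ :=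
      Injective.comp_factorThru _ _
    let γ : (JF X ℤ).obj U ⟶ (ModAb.ab Λ X).obj I :=
      cz Λ U ≫ (ModAb.ab Λ X).map (Injective.factorThru α₀ (map (Λ := Λ) g))
    have h4 : (JF X ℤ).map g ≫ γ = β := by
      rw [← Category.assoc, cz_nat, Category.assoc, ← Functor.map_comp, h2, hα₀]
    have h5 : Ext.mk₀ β = (Ext.mk₀ (seqZ g).f).comp
        (Ext.mk₀ (show (seqZ g).X₂ ⟶ (ModAb.ab Λ X).obj I from γ)) (zero_add 0) :=
      ((Ext.mk₀_comp_mk₀ _ _).trans (congrArg Ext.mk₀ h4)).symm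
    rw [h5]
    exact ShortComplex.ShortExact.extClass_comp_assoc (shortExact_seqZ g) _

/-- `Ext^q(Λ[U] / Λ[U₀], F) → Ext^q(ℤ[U] / ℤ[U₀], F^ab)` is bijective. -/
theorem bijective_extMap [Mono g] (F : EtModW.Mod Λ X) (q : ℕ) :
    Function.Bijective (ExtMap.extMap (ModAb.ab Λ X) (cQ Λ g) F q) :=
  ExtCompare.cmp_bijective (ModAb.ab Λ X) (cQ Λ g) (fun F => bijective_hom g F)
    (fun I _ q e => ext_eq_zero g I q e) F q

end Groth.Agent.Etdl.H2.ExtC
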