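import Groth.Agent.Etdl.H2.ShriekQ
import Groth.Agent.Etdl.H2.ExtC
import Groth.Agent.Etdl.H2.DualEt
import Groth.Agent.Etcore.ShriekToPush

/-!
# The class of a point

`k` algebraically closed, `P` locally of finite type over `k`, `v : V ⟶ P` etale with duality (`DualTr v n N`),
`x : Spec k ⟶ V` a `k`-point with closed image in `P`, `g : U₀ ⟶ V` the open complement of `x`,
`C = ℤ[V] / ℤ[U₀]`.
* `IsClassSec s`: `s : ℤ_P ⟶ v_! C` has the germ of the canonical section of `C` at `x`; `existsUnique_classSec`;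
* `bijective_class`: `Ext^N(C, F) → Ext^N(ℤ_P, v_! F)`, `u ↦ s · v_!(u)` is bijective for `F ≅ ℤ/n`;
* `nonempty_equiv`, `nonempty_equiv'`: both groups are isomorphic to `ℤ/n`.
-/

set_option autoImplicit false
set_option linter.unusedSectionVars false
universe u

open CategoryTheory CategoryTheory.Limits CategoryTheory.Abelian AlgebraicGeometry Opposite
open Groth.Agent.EtpbcA Groth.Agent.EtpbcA.StalkTools Groth.Agent.Sga4B.DualShape
open Groth.Agent.Etdl.H2.StalkCoker Groth.Agent.Etdl.H2.SuppPt Groth.Agent.Etdl.H2.ShriekQ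
open Groth.Agent.Etdl.H2.ExtC Groth.Agent.Etdl.H2.DualEt
open Groth.Agent.Etrest.ModAb Groth.Agent.Sga4B
open Groth.Agent.Sga4B.DualAsm Groth.Agent.Sga4B.LMLS

namespace Groth.Agent.Etdl.H2.ClassA

section delta

/-- The section `1` of `ℤ_P`. -/
noncomputable def one (P : Scheme.{u}) : EtCoh.sect (EtCoh.const P ℤ) (EtCoh.top P) :=
  (JFComp.topIso ℤ P).hom.hom.app (op (EtCoh.top P)) (Jshriek.univ (EtCoh.top P) ℤ 1)

variable {P : Scheme.{u}}

theorem bijective_eval (D : EtCoh.Ab P) : Function.Bijective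
    (fun f : Z P ⟶ D => f.hom.app (op (EtCoh.top P)) (one P)) := by
  constructor
  · intro f f' h
    rw [← cancel_epi (JFComp.topIso ℤ P).hom]
    exact Etcore.ModExt.zhom_ext h
  · intro s
    refine ⟨(JFComp.topIso ℤ P).inv ≫ Etcore.ModExt.zdesc s, ?_⟩
    have h1 : (JFComp.topIso ℤ P).inv.hom.app (op (EtCoh.top P)) (one P) =
        Jshriek.univ (EtCoh.top P) ℤ 1 := by
      have h2 := congrArg (fun k => k.hom.app (op (EtCoh.top P)) (Jshriek.univ (EtCoh.top P) ℤ 1))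
        (JFComp.topIso ℤ P).hom_inv_id
      exact h2
    change (Etcore.ModExt.zdesc s).hom.app (op (EtCoh.top P))
      ((JFComp.topIso ℤ P).inv.hom.app (op (EtCoh.top P)) (one P)) = s
    rw [h1]
    exact Etcore.ModExt.zdesc_zgen s

variable {Ω : Type u} [Field Ω] [IsSepClosed Ω] (ξ : Spec (CommRingCat.of Ω) ⟶ P)

/-- The germ of the section given by a morphism `ℤ_P ⟶ D`. -/
noncomputable def delta (D : EtCoh.Ab P) : (Z P ⟶ D) →+ (EtCoh.stalk ξ).obj D :=
  AddMonoidHom.mk' (fun f => germ ξ (topPt ξ) (f.hom.app (op (EtCoh.top P)) (one P)))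
    (fun f f' => by
      have h1 : (f + f').hom.app (op (EtCoh.top P)) (one P) =
        f.hom.app (op (EtCoh.top P)) (one P) + f'.hom.app (op (EtCoh.top P)) (one P) := rfl
      rw [h1]
      exact map_add _ _ _)

theorem delta_apply (D : EtCoh.Ab P) (f : Z P ⟶ D) :
    delta ξ D f = germ ξ (topPt ξ) (f.hom.app (op (EtCoh.top P)) (one P)) := rfl

theorem delta_comp {D D' : EtCoh.Ab P} (f : Z P ⟶ D) (h : D ⟶ D') :
    delta ξ D' (f ≫ h) = (EtCoh.stalk ξ).map h (delta ξ D f) :=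
  (stalk_map_germ ξ h (topPt ξ) _).symm

end delta

theorem bijective_delta {k : Type u} [Field k] [IsAlgClosed k] {P : Scheme.{u}}
    (a : P ⟶ Spec (CommRingCat.of k)) [LocallyOfFiniteType a]
    (ξ : Spec (CommRingCat.of k) ⟶ P) (hcl : IsClosed {ξ default}) (D : EtCoh.Ab P)
    (hD : VanOff D (ξ default)) : Function.Bijective (delta ξ D) :=
  (SuppPt.bijective_germ a hcl hD).comp (bijective_eval D)

theorem VanOff.of_iso {P : Scheme.{u}} {D D' : EtCoh.Ab P} {p : P} (e : D ≅ D')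
    (h : VanOff D p) : VanOff D' p := by
  intro T hT s
  have h1 := h T hT (e.inv.hom.app (op T) s)
  have h2 := congrArg (fun k => k.hom.app (op T) s) e.inv_hom_id
  have h3 : e.hom.hom.app (op T) (e.inv.hom.app (op T) s) = s := h2
  rw [← h3, h1]
  exact map_zero _

/-- Naturality of the unit of `v_! ⊣ v^*` on sections. -/
theorem map_unit {V P : Scheme.{u}} (v : V ⟶ P) [Etale v] {F G : EtCoh.Ab V} (α : F ⟶ G)
    (U : V.Etale) (s : EtCoh.sect F U) :
    ((EtShriek.extZero v).map α).hom.app (op ((EtShriek.compEtale v).obj U))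
      (((EtShriek.extZeroAdj v).unit.app F).hom.app (op U) s) =
    ((EtShriek.extZeroAdj v).unit.app G).hom.app (op U) (α.hom.app (op U) s) := by
  have h := (EtShriek.extZeroAdj v).unit.naturality α
  have h2 := congrArg (fun k => k.hom.app (op U) s) h
  exact h2.symm

section kappa

variable {V : Scheme.{u}} {U₀ U : V.Etale} (g : U₀ ⟶ U) (n : ℕ)

/-- `ℤ/n ≅ Λ`. -/
noncomputable abbrev eL (n : ℕ) : ZMod n ≃+ Lam.{u} n := AddEquiv.ulift.symm

/-- `(ℤ/n)[U] / (ℤ/n)[U₀] ≅ (Λ[U] / Λ[U₀])^ab`. -/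
noncomputable def kappa : Q (ZMod n) g ≅ (ab (Lam.{u} n) V).obj (QM (Lam.{u} n) g) :=
  cokernel.mapIso _ _ (jiso (eL n) U₀) (jiso (eL n) U) (jiso_nat g (eL n)) ≪≫
    (PreservesCokernel.iso (ab (Lam.{u} n) V) (Etcore.LFree.map (Λ := Lam.{u} n) g)).symm

theorem π_kappa : cokernel.π ((JF V (ZMod n)).map g) ≫ (kappa g n).hom =
    (jiso (eL n) U).hom ≫
      (ab (Lam.{u} n) V).map (cokernel.π (Etcore.LFree.map (Λ := Lam.{u} n) g)) := by
  rw [kappa, Iso.trans_hom, cokernel.mapIso_hom, ← Category.assoc, cokernel.π_desc, Category.assoc]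
  congr 1
  rw [Iso.symm_hom, Iso.comp_inv_eq]
  exact (PreservesCokernel.π_iso_hom _ _).symm

theorem kappa_qsec : (kappa g n).hom.hom.app (op U) (qsec (ZMod n) g 1) =
    (cQ (Lam.{u} n) g).hom.app (op U) (qsec ℤ g 1) := by
  have h1 := congrArg (fun k => k.hom.app (op U) (Jshriek.univ U (ZMod n) 1)) (π_kappa g n)
  have h2 := congrArg (fun k => k.hom.app (op U) (Jshriek.univ U ℤ 1)) (π_cQ (Λ := Lam.{u} n) g)
  refine h1.trans (Eq.trans ?_ h2.symm)
  have h3 : (jiso (eL.{u} n) U).hom.hom.app (op U) (Jshriek.univ U (ZMod n) 1) =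
      (eL.{u} n 1) • Etcore.LFree.gen (Lam.{u} n) U := Etcore.ModExt.isoAbHom_univ _ U 1
  have h4 : (cz (Lam.{u} n) U).hom.app (op U) (Jshriek.univ U ℤ 1) =
    Etcore.LFree.gen (Lam.{u} n) U := cz_univ U
  have h5 : (eL.{u} n 1) • Etcore.LFree.gen (Lam.{u} n) U = Etcore.LFree.gen (Lam.{u} n) U :=
    one_smul _ _
  change ((ab (Lam.{u} n) V).map (cokernel.π (Etcore.LFree.map (Λ := Lam.{u} n) g))).hom.app (op U)
      ((jiso (eL.{u} n) U).hom.hom.app (op U) (Jshriek.univ U (ZMod n) 1)) =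
    ((ab (Lam.{u} n) V).map (cokernel.π (Etcore.LFree.map (Λ := Lam.{u} n) g))).hom.app (op U)
      ((cz (Lam.{u} n) U).hom.app (op U) (Jshriek.univ U ℤ 1))
  rw [h3, h4, h5]

end kappa

section algebra

/-- Evaluation at a generator of a group isomorphic to `ℤ/n`. -/
theorem bijective_evalAt {A : Type*} [AddCommGroup A] {n : ℕ} (Θ : A ≃+ ZMod n) (y : A)
    (hy : Θ y = 1) : Function.Bijective (fun c : A →+ E.{u} n => c y) := by
  have key : ∀ z : A, ∃ m : ℤ, z = m • y := by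
    intro z
    obtain ⟨m, hm⟩ := ZMod.intCast_surjective (Θ z)
    refine ⟨m, Θ.injective ?_⟩
    rw [map_zsmul, hy, ← hm, zsmul_eq_mul, mul_one]
  constructor
  · intro c c' h
    ext z
    obtain ⟨m, rfl⟩ := key z
    dsimp only at h
    rw [map_zsmul, map_zsmul, h]
  · intro b
    let f : ZMod n →+ E.{u} n := ZMod.lift n ⟨zmultiplesHom _ b, by
      change (n : ℤ) • b = 0
      apply ULift.ext
      change (n : ℤ) • b.down = 0
      rw [zsmul_eq_mul]
      simp⟩
    refine ⟨f.comp Θ.toAddMonoidHom, ?_⟩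
    change f (Θ y) = b
    rw [hy]
    have h1 : ((1 : ℤ) : ZMod n) = 1 := by simp
    rw [← h1, ZMod.lift_coe]
    exact one_zsmul b

end algebra

section main

variable {k : Type u} [Field k] [IsAlgClosed k] {V P : Scheme.{u}} (v : V ⟶ P) [Etale v]
  (a : P ⟶ Spec (CommRingCat.of k)) [LocallyOfFiniteType a]
  {U₀ : V.Etale} (g : U₀ ⟶ EtCoh.top V)
  (x : Spec (CommRingCat.of k) ⟶ V)
  (hx : Set.range g.left = ({x default}ᶜ : Set V)) (hcl : IsClosed {(x ≫ v) default})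

/-- `s : ℤ_P ⟶ v_! (ℤ[V] / ℤ[U₀])` has at `x` the germ of the canonical section. -/
def IsClassSec (s : Z P ⟶ (EtShriek.extZero v).obj (Q ℤ g)) : Prop :=
  delta (x ≫ v) _ s = germ (x ≫ v) (vpt v x) (vsec v ℤ g 1)

/-- The germ of a class section in terms of the stalk of `ℤ[V] / ℤ[U₀]` at `x`. -/
theorem germ_vpt (M : Type) [AddCommGroup M] (m : M) :
    germ (x ≫ v) (vpt v x) (vsec v M g m) =
      (Etcore.ShriekStalk.stalkToExtZero v (x ≫ v) x rfl).app (Q M g)
        (germ x (topPt x) (qsec M g m)) :=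
  (Etcore.ShriekToPush.stalkToExtZero_germ v (x ≫ v) x rfl (Q M g) (EtCoh.top V) (topPt x)
    (qsec M g m)).symm

include a hx hcl in
theorem existsUnique_classSec : ∃! s, IsClassSec v g x s := by
  have h := bijective_delta a (x ≫ v) hcl _ (vanOff v ℤ g x hx)
  obtain ⟨s, hs⟩ := h.2 (germ (x ≫ v) (vpt v x) (vsec v ℤ g 1))
  exact ⟨s, hs, fun s' hs' => h.1 (Eq.trans hs' hs.symm)⟩

variable (n : ℕ)

include a hx hcl in
/-- `Hom(ℤ_P, v_! (Λ[V] / Λ[U₀]))` is cyclic of order `n`, generated by the image of the class section. -/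
theorem exists_theta (s : Z P ⟶ (EtShriek.extZero v).obj (Q ℤ g)) (hs : IsClassSec v g x s) :
    ∃ Θ : (Z P ⟶ (Psi v n).obj (QM (Lam.{u} n) g)) ≃+ ZMod n,
      Θ (s ≫ (EtShriek.extZero v).map (cQ (Lam.{u} n) g)) = 1 := by
  let e : (EtShriek.extZero v).obj (Q (ZMod n) g) ≅ (Psi v n).obj (QM (Lam.{u} n) g) :=
    (EtShriek.extZero v).mapIso (kappa g n)
  have h1 := bijective_delta a (x ≫ v) hcl ((Psi v n).obj (QM (Lam.{u} n) g))
    (VanOff.of_iso e (vanOff v (ZMod n) g x hx))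
  have h2 := ShriekQ.bijective_germ v a (ZMod n) g x hx hcl
  have h3 : Function.Bijective ((EtCoh.stalk (x ≫ v)).map e.hom) := by
    have : IsIso ((EtCoh.stalk (x ≫ v)).map e.hom) := inferInstance
    exact ConcreteCategory.bijective_of_isIso _
  let A1 := AddEquiv.ofBijective (delta (x ≫ v) ((Psi v n).obj (QM (Lam.{u} n) g))) h1
  let A2 : ZMod n ≃+ (EtCoh.stalk (x ≫ v)).obj ((EtShriek.extZero v).obj (Q (ZMod n) g)) :=
    AddEquiv.ofBijective (AddMonoidHom.mk' (fun m => germ (x ≫ v) (vpt v x) (vsec v (ZMod n) g m))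
      (fun b c => by
        rw [map_add]
        exact map_add _ _ _)) h2
  let A3 := AddEquiv.ofBijective ((EtCoh.stalk (x ≫ v)).map e.hom).hom h3
  refine ⟨A1.trans (A3.symm.trans A2.symm), ?_⟩
  change A2.symm (A3.symm (delta (x ≫ v) ((Psi v n).obj (QM (Lam.{u} n) g))
    (s ≫ (EtShriek.extZero v).map (cQ (Lam.{u} n) g)))) = 1
  rw [AddEquiv.symm_apply_eq, AddEquiv.symm_apply_eq]
  have e1 : delta (x ≫ v) ((Psi v n).obj (QM (Lam.{u} n) g))
      (s ≫ (EtShriek.extZero v).map (cQ (Lam.{u} n) g)) =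
      (EtCoh.stalk (x ≫ v)).map ((EtShriek.extZero v).map (cQ (Lam.{u} n) g))
        (germ (x ≫ v) (vpt v x) (vsec v ℤ g 1)) := by
    rw [← hs]
    exact delta_comp (x ≫ v) s ((EtShriek.extZero v).map (cQ (Lam.{u} n) g))
  have e2 : A3 (A2 1) = (EtCoh.stalk (x ≫ v)).map e.hom
      (germ (x ≫ v) (vpt v x) (vsec v (ZMod n) g 1)) := rfl
  rw [e2]
  refine e1.trans ?_
  rw [stalk_map_germ, stalk_map_germ]
  refine congrArg (germ (x ≫ v) (vpt v x)) ?_
  refine (map_unit v (cQ (Lam.{u} n) g) (EtCoh.top V) (qsec ℤ g 1)).trans (Eq.trans ?_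
    (map_unit v (kappa g n).hom (EtCoh.top V) (qsec (ZMod n) g 1)).symm)
  exact congrArg _ (kappa_qsec g n).symm

/-- The class map. -/
noncomputable def classMap (s : Z P ⟶ (EtShriek.extZero v).obj (Q ℤ g)) (F : EtCoh.Ab V) (N : ℕ) :
    Ext.{u + 1} (Q ℤ g) F N →+ Ext.{u + 1} (Z P) ((EtShriek.extZero v).obj F) N :=
  Etcore.ExtMap.extMap (EtShriek.extZero v) s F N

theorem classMap_apply (s : Z P ⟶ (EtShriek.extZero v).obj (Q ℤ g)) (F : EtCoh.Ab V) (N : ℕ)
    (u : Ext.{u + 1} (Q ℤ g) F N) : classMap v g s F N u =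
      (Ext.mk₀ s).comp (u.mapExactFunctor (EtShriek.extZero v)) (zero_add N) := rfl

theorem bijective_classMap_of_iso {s : Z P ⟶ (EtShriek.extZero v).obj (Q ℤ g)} {F G : EtCoh.Ab V}
    (e : F ≅ G) (N : ℕ) (h : Function.Bijective (classMap v g s G N)) :
    Function.Bijective (classMap v g s F N) := by
  have h1 : ∀ u : Ext.{u + 1} (Q ℤ g) F N, classMap v g s G N (u.comp (Ext.mk₀ e.hom) (add_zero N)) =
      (classMap v g s F N u).comp (Ext.mk₀ ((EtShriek.extZero v).map e.hom)) (add_zero N) :=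
    fun u => Etcore.ExtMap.extMap_comp_mk₀ (EtShriek.extZero v) s e.hom N u
  have b : ∀ {C : Type (u + 2)} [Category.{u + 1} C] [Abelian C] [HasExt.{u + 1} C] {A B B' : C}
      (i : B ≅ B') (N : ℕ), Function.Bijective
        (fun y : Ext.{u + 1} A B N => y.comp (Ext.mk₀ i.hom) (add_zero N)) := by
    intro C _ _ _ A B B' i N
    refine Function.bijective_iff_has_inverse.2
      ⟨fun y => y.comp (Ext.mk₀ i.inv) (add_zero N), fun y => ?_, fun y => ?_⟩
    · dsimp only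
      rw [Ext.comp_assoc_of_third_deg_zero, Ext.mk₀_comp_mk₀, i.hom_inv_id, Ext.comp_mk₀_id]
    · dsimp only
      rw [Ext.comp_assoc_of_third_deg_zero, Ext.mk₀_comp_mk₀, i.inv_hom_id, Ext.comp_mk₀_id]
  have b1 := b (A := Q ℤ g) e N
  have b2 := b (A := Z P) ((EtShriek.extZero v).mapIso e) N
  have h2 : (fun y : Ext.{u + 1} (Z P) ((EtShriek.extZero v).obj F) N =>
      y.comp (Ext.mk₀ ((EtShriek.extZero v).mapIso e).hom) (add_zero N)) ∘ classMap v g s F N =
      classMap v g s G N ∘ (fun u : Ext.{u + 1} (Q ℤ g) F N => u.comp (Ext.mk₀ e.hom) (add_zero N)) := by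
    funext u
    exact (h1 u).symm
  have h3 := h.comp b1
  rw [← h2] at h3
  exact (Function.Bijective.of_comp_iff' b2 _).1 h3

variable {N : ℕ}

include a hx hcl in
/-- **The class of a point**: `Ext^N(ℤ[V] / ℤ[V - x], F) → H^N(P, v_! F)` is bijective for `F ≅ ℤ/n`. -/
theorem bijective_class [Mono g] (hD : DualTr v n N) (s : Z P ⟶ (EtShriek.extZero v).obj (Q ℤ g))
    (hs : IsClassSec v g x s) (F : EtCoh.Ab V) (hF : Nonempty (F ≅ EtCoh.const V (ZMod n))) :
    Function.Bijective (classMap v g s F N) := by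
  obtain ⟨K, tr, htr, h2, ⟨e⟩⟩ := hD
  obtain ⟨i⟩ := hF
  let θ : F ≅ (ab (Lam.{u} n) V).obj K :=
    i ≪≫ (EtSix.H42.TateK.abConst n V).symm ≪≫ (ab (Lam.{u} n) V).mapIso e
  refine bijective_classMap_of_iso v g θ N ?_
  obtain ⟨Θ, hΘ⟩ := exists_theta v a g x hx hcl n s hs
  let s' : Z P ⟶ (Psi v n).obj (QM (Lam.{u} n) g) :=
    s ≫ (EtShriek.extZero v).map (cQ (Lam.{u} n) g)
  have h3 : Function.Bijective (fun c : Ext.{u + 1} (Z P) ((Psi v n).obj (QM (Lam.{u} n) g)) 0 →+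
      E.{u} n => c (Ext.mk₀ s')) :=
    bijective_evalAt (Ext.addEquiv₀.trans Θ) (Ext.mk₀ s') (by
      change Θ (Ext.addEquiv₀ (Ext.mk₀ s')) = 1
      rw [show Ext.addEquiv₀ (Ext.mk₀ s') = s' from Ext.addEquiv₀.apply_symm_apply s']
      exact hΘ)
  have h4 := h3.comp (h2 N 0 (zero_add N) (QM (Lam.{u} n) g))
  have h5 : Function.Bijective (fun y : Ext.{u + 1} (QM (Lam.{u} n) g) K N =>
      (Ext.mk₀ s').comp (y.mapExactFunctor (Psi v n)) (zero_add N)) :=
    (Function.Bijective.of_comp_iff' htr _).1 h4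
  have h6 := ExtC.bijective_extMap (Λ := Lam.{u} n) g K N
  have h7 : (fun y : Ext.{u + 1} (QM (Lam.{u} n) g) K N =>
      (Ext.mk₀ s').comp (y.mapExactFunctor (Psi v n)) (zero_add N)) =
      classMap v g s ((ab (Lam.{u} n) V).obj K) N ∘
        Etcore.ExtMap.extMap (ab (Lam.{u} n) V) (cQ (Lam.{u} n) g) K N := by
    funext y
    have e1 : y.mapExactFunctor (Psi v n) =
        (y.mapExactFunctor (ab (Lam.{u} n) V)).mapExactFunctor (EtShriek.extZero v) :=
      Etcore.ExtAdj.mapExactFunctor_compFunctor _ _ y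
    change (Ext.mk₀ s').comp (y.mapExactFunctor (Psi v n)) (zero_add N) =
      (Ext.mk₀ s).comp (((Ext.mk₀ (cQ (Lam.{u} n) g)).comp
        (y.mapExactFunctor (ab (Lam.{u} n) V)) (zero_add N)).mapExactFunctor
          (EtShriek.extZero v)) (zero_add N)
    rw [Ext.mapExactFunctor_comp, Ext.mapExactFunctor_mk₀, ← Ext.comp_assoc_of_second_deg_zero,
      Ext.mk₀_comp_mk₀]
    exact congrArg (fun z => (Ext.mk₀ s').comp z (zero_add N)) e1
  rw [h7] at h5
  exact (Function.Bijective.of_comp_iff _ h6).1 h5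

/-- The top cohomology is `ℤ/n`. -/
theorem nonempty_equiv (hD : DualTr v n N) (F : EtCoh.Ab V)
    (hF : Nonempty (F ≅ EtCoh.const V (ZMod n))) :
    Nonempty (Ext.{u + 1} (Z P) ((EtShriek.extZero v).obj F) N ≃+ ZMod n) := by
  obtain ⟨K, tr, htr, -, ⟨e⟩⟩ := hD
  obtain ⟨i⟩ := hF
  let θ : (EtShriek.extZero v).obj F ≅ (Psi v n).obj K := (EtShriek.extZero v).mapIso
    (i ≪≫ (EtSix.H42.TateK.abConst n V).symm ≪≫ (ab (Lam.{u} n) V).mapIso e)
  let A1 : Ext.{u + 1} (Z P) ((EtShriek.extZero v).obj F) N ≃+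
      Ext.{u + 1} (Z P) ((Psi v n).obj K) N :=
    { toFun := fun y => y.comp (Ext.mk₀ θ.hom) (add_zero N)
      invFun := fun y => y.comp (Ext.mk₀ θ.inv) (add_zero N)
      left_inv := fun y => by
        dsimp only
        rw [Ext.comp_assoc_of_third_deg_zero, Ext.mk₀_comp_mk₀, θ.hom_inv_id, Ext.comp_mk₀_id]
      right_inv := fun y => by
        dsimp only
        rw [Ext.comp_assoc_of_third_deg_zero, Ext.mk₀_comp_mk₀, θ.inv_hom_id, Ext.comp_mk₀_id]
      map_add' := fun _ _ => Ext.add_comp _ _ _ _ }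
  exact ⟨(A1.trans (AddEquiv.ofBijective tr htr)).trans AddEquiv.ulift⟩

include a hx hcl in
/-- The top cohomology with support in `x` is `ℤ/n`. -/
theorem nonempty_equiv_supp [Mono g] (hD : DualTr v n N) (F : EtCoh.Ab V)
    (hF : Nonempty (F ≅ EtCoh.const V (ZMod n))) :
    Nonempty (Ext.{u + 1} (Q ℤ g) F N ≃+ ZMod n) := by
  obtain ⟨s, hs, -⟩ := existsUnique_classSec v a g x hx hcl
  obtain ⟨e⟩ := nonempty_equiv v n hD F hF
  exact ⟨(AddEquiv.ofBijective _ (bijective_class v a g x hx hcl n hD s hs F hF)).trans e⟩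

end main

end Groth.Agent.Etdl.H2.ClassA
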