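import Groth.Agent.Etcore.ExtAdj

/-!
# Abstract nonsense for class maps

`L ⊣ R` exact, `Ψ' ≅ L ⋙ Ψ`, `r : C' ⟶ R C`, `s : Z ⟶ Ψ' C'`, `u ∈ Ext^N(C, F)`:
`s · Ψ'(r · R u)` followed by `Ψ' R F ⟶ Ψ L R F ⟶ Ψ F` is `(s ≫ Ψ' C' ⟶ Ψ L C' ⟶ Ψ C) · Ψ u`.
-/

set_option autoImplicit false
set_option linter.unusedSectionVars false

universe w w' w'' v v' v'' u u' u''

open CategoryTheory CategoryTheory.Limits CategoryTheory.Abelian
open Groth.Agent.Etcore.ExtAdj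

namespace Groth.Agent.Etdl.H2.ClassAbs

variable {A : Type u} [Category.{v} A] [Abelian A] [HasExt.{w} A] [EnoughInjectives A]
variable {A' : Type u'} [Category.{v'} A'] [Abelian A'] [HasExt.{w'} A'] [EnoughInjectives A']
variable {B : Type u''} [Category.{v''} B] [Abelian B] [HasExt.{w''} B]
variable {L : A ⥤ A'} {R : A' ⥤ A} (adj : L ⊣ R)
  [L.Additive] [PreservesFiniteLimits L] [PreservesFiniteColimits L]
  [R.Additive] [PreservesFiniteLimits R] [PreservesFiniteColimits R]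
variable (Ψ : A' ⥤ B) [Ψ.Additive] [PreservesFiniteLimits Ψ] [PreservesFiniteColimits Ψ]
variable (Ψ' : A ⥤ B) [Ψ'.Additive] [PreservesFiniteLimits Ψ'] [PreservesFiniteColimits Ψ']
variable (τ : L ⋙ Ψ ≅ Ψ')

/-- Naturality of `Ψ' ≅ L ⋙ Ψ` on Ext groups. -/
theorem map_tau {F G : A} {q : ℕ} (e : Ext.{w} F G q) :
    (e.mapExactFunctor Ψ').comp (Ext.mk₀ (τ.inv.app G)) (add_zero q) =
      (Ext.mk₀ (τ.inv.app F)).comp (Y := Ψ.obj (L.obj F)) ((e.mapExactFunctor L).mapExactFunctor Ψ)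
        (zero_add q) := by
  have i1 : (L ⋙ Ψ).Additive := inferInstance
  have i2 : PreservesFiniteLimits (L ⋙ Ψ) := comp_preservesFiniteLimits _ _
  have i3 : PreservesFiniteColimits (L ⋙ Ψ) := comp_preservesFiniteColimits _ _
  have h1 := mapExactFunctor_nat (F := Ψ') (G := L ⋙ Ψ) τ.inv e
  have h2 : e.mapExactFunctor (L ⋙ Ψ) = (e.mapExactFunctor L).mapExactFunctor Ψ :=
    mapExactFunctor_compFunctor L Ψ e
  exact h1.trans (congrArg (fun z => (Ext.mk₀ (τ.inv.app F)).comp z (zero_add q)) h2)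

theorem assoc_aux {Z F0 F1 F2 K0 K1 K2 : B} {q : ℕ} (s : Z ⟶ F0) (r : F0 ⟶ F1)
    (α : Ext.{w''} F1 K0 q) (t : K0 ⟶ K1) (t' : F1 ⟶ F2) (α' : Ext.{w''} F2 K1 q) (β : K1 ⟶ K2)
    (hh : α.comp (Ext.mk₀ t) (add_zero q) = (Ext.mk₀ t').comp α' (zero_add q)) :
    ((Ext.mk₀ s).comp ((Ext.mk₀ r).comp α (zero_add q)) (zero_add q)).comp
      (Ext.mk₀ (t ≫ β)) (add_zero q) =
    (Ext.mk₀ (s ≫ r ≫ t')).comp (α'.comp (Ext.mk₀ β) (add_zero q)) (zero_add q) := by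
  rw [← Ext.mk₀_comp_mk₀ t β, ← Ext.comp_assoc_of_third_deg_zero,
    Ext.comp_assoc_of_third_deg_zero _ _ (Ext.mk₀ t), Ext.comp_assoc_of_third_deg_zero _ α, hh,
    ← Ext.mk₀_comp_mk₀, ← Ext.mk₀_comp_mk₀]
  simp only [Ext.comp_assoc_of_third_deg_zero, Ext.comp_assoc_of_second_deg_zero]

theorem class_comp {C' : A} {C F : A'} (r : C' ⟶ R.obj C) {Z : B} (s : Z ⟶ Ψ'.obj C') {N : ℕ}
    (u : Ext.{w'} C F N) :
    ((Ext.mk₀ s).comp (((Ext.mk₀ r).comp (u.mapExactFunctor R) (zero_add N)).mapExactFunctor Ψ')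
      (zero_add N)).comp (Ext.mk₀ (τ.inv.app (R.obj F) ≫ Ψ.map (adj.counit.app F)))
        (add_zero N) =
    (Ext.mk₀ (s ≫ τ.inv.app C' ≫ Ψ.map (L.map r ≫ adj.counit.app C))).comp
      (u.mapExactFunctor Ψ) (zero_add N) := by
  have h1 : ((Ext.mk₀ r).comp (u.mapExactFunctor R) (zero_add N)).mapExactFunctor Ψ' =
      (Ext.mk₀ (Ψ'.map r)).comp ((u.mapExactFunctor R).mapExactFunctor Ψ') (zero_add N) := by
    rw [Ext.mapExactFunctor_comp, Ext.mapExactFunctor_mk₀]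
  rw [h1, assoc_aux s (Ψ'.map r) ((u.mapExactFunctor R).mapExactFunctor Ψ')
    (τ.inv.app (R.obj F)) (τ.inv.app (R.obj C))
    (((u.mapExactFunctor R).mapExactFunctor L).mapExactFunctor Ψ) (Ψ.map (adj.counit.app F))
    (map_tau Ψ Ψ' τ (u.mapExactFunctor R))]
  have h2 : (((u.mapExactFunctor R).mapExactFunctor L).mapExactFunctor Ψ).comp
      (Ext.mk₀ (Ψ.map (adj.counit.app F))) (add_zero N) =
      (Ext.mk₀ (Ψ.map (adj.counit.app C))).comp (u.mapExactFunctor Ψ) (zero_add N) := by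
    rw [← Ext.mapExactFunctor_mk₀, ← Ext.mapExactFunctor_mk₀, ← Ext.mapExactFunctor_comp,
      ← Ext.mapExactFunctor_comp, counit_nat]
  rw [h2, ← Ext.comp_assoc_of_second_deg_zero, Ext.mk₀_comp_mk₀]
  have h3 : Ψ'.map r ≫ τ.inv.app (R.obj C) = τ.inv.app C' ≫ Ψ.map (L.map r) := τ.inv.naturality r
  have h4 : (s ≫ Ψ'.map r ≫ τ.inv.app (R.obj C)) ≫ Ψ.map (adj.counit.app C) =
      s ≫ τ.inv.app C' ≫ Ψ.map (L.map r ≫ adj.counit.app C) := by
    rw [h3, Functor.map_comp, Category.assoc, Category.assoc]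
  rw [h4]

end Groth.Agent.Etdl.H2.ClassAbs
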