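import Groth.Agent.Etcore.ShriekExact
import Groth.Agent.EtpbcA.OverSite
import Groth.Agent.EtpbcA.StalkTools

/-!
# `h_! ⋙ v_! ≅ (h ≫ v)_!` with its value on canonical sections

* `cIso h v : compEtale h ⋙ compEtale v ≅ compEtale (h ≫ v)`;
* `rIso : (h ≫ v)^* ≅ v^* ⋙ h^*` and `sIso : h_! ⋙ v_! ≅ (h ≫ v)_!`;
* `unit_sIso`: the value of `sIso` on the sections `unit (unit s)`.
-/

set_option autoImplicit false
set_option linter.unusedSectionVars false
universe u v₁ v₂ v₃ u₁ u₂ u₃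

open CategoryTheory CategoryTheory.Limits AlgebraicGeometry Opposite

namespace Groth.Agent.Etdl.H2.CompShriek

section abs

variable {A : Type u₁} [Category.{v₁} A] {B : Type u₂} [Category.{v₂} B] {C : Type u₃}
  [Category.{v₃} C] {L₁ : A ⥤ B} {R₁ : B ⥤ A} (adj₁ : L₁ ⊣ R₁) {L₂ : B ⥤ C} {R₂ : C ⥤ B}
  (adj₂ : L₂ ⊣ R₂) {L₃ : A ⥤ C} {R₃ : C ⥤ A} (adj₃ : L₃ ⊣ R₃) (i : R₃ ≅ R₂ ⋙ R₁)

/-- Comparison of left adjoints. -/
def cmpL : L₁ ⋙ L₂ ≅ L₃ :=
  Adjunction.leftAdjointUniq ((adj₁.comp adj₂).ofNatIsoRight i.symm) adj₃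

theorem unit_cmpL (F : A) : adj₁.unit.app F ≫ R₁.map (adj₂.unit.app (L₁.obj F)) ≫
    i.inv.app (L₂.obj (L₁.obj F)) ≫ R₃.map ((cmpL adj₁ adj₂ adj₃ i).hom.app F) =
      adj₃.unit.app F := by
  have h := Adjunction.unit_leftAdjointUniq_hom_app ((adj₁.comp adj₂).ofNatIsoRight i.symm) adj₃ F
  refine Eq.trans ?_ h
  simp [cmpL, Adjunction.ofNatIsoRight, Adjunction.comp]

end abs

variable {W V P : Scheme.{u}} (h : W ⟶ V) [Etale h] (v : V ⟶ P) [Etale v]

/-- `compEtale` is compatible with composition. -/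
noncomputable def cIso : EtShriek.compEtale h ⋙ EtShriek.compEtale v ≅
    EtShriek.compEtale (h ≫ v) :=
  (MorphismProperty.Over.mapComp (P := EtCoh.etaleMP.{u}) ⊤ (inferInstanceAs (Etale h))
    (inferInstanceAs (Etale v))).symm

theorem cIso_hom_left (U : W.Etale) : ((cIso h v).hom.app U).left = 𝟙 U.left := rfl

theorem cIso_inv_left (U : W.Etale) : ((cIso h v).inv.app U).left = 𝟙 U.left := rfl

/-- `(h ≫ v)^* ≅ v^* ⋙ h^*` for restrictions. -/
noncomputable def rIso : EtShriek.restrAlong (h ≫ v) ≅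
    EtShriek.restrAlong v ⋙ EtShriek.restrAlong h :=
  (Functor.sheafPushforwardContinuousComp' (F := EtShriek.compEtale h) (G := EtShriek.compEtale v)
    (FG := EtShriek.compEtale (h ≫ v)) (cIso h v) AddCommGrpCat.{u + 1}
    W.smallEtaleTopology V.smallEtaleTopology P.smallEtaleTopology).symm

theorem rIso_inv_app (G : EtCoh.Ab P) (U : W.Etale)
    (s : EtCoh.sect G ((EtShriek.compEtale v).obj ((EtShriek.compEtale h).obj U))) :
    ((rIso h v).inv.app G).hom.app (op U) s = G.obj.map ((cIso h v).inv.app U).op s := rfl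

/-- `h_! ⋙ v_! ≅ (h ≫ v)_!`. -/
noncomputable def sIso : EtShriek.extZero h ⋙ EtShriek.extZero v ≅ EtShriek.extZero (h ≫ v) :=
  cmpL (EtShriek.extZeroAdj h) (EtShriek.extZeroAdj v) (EtShriek.extZeroAdj (h ≫ v)) (rIso h v)

/-- The value of `h_! ⋙ v_! ≅ (h ≫ v)_!` on the sections `unit (unit s)`. -/
theorem sIso_hom_unit (F : EtCoh.Ab W) (U : W.Etale) (s : EtCoh.sect F U) :
    ((sIso h v).hom.app F).hom.app (op ((EtShriek.compEtale (h ≫ v)).obj U))
      (((EtShriek.extZero v).obj ((EtShriek.extZero h).obj F)).obj.map ((cIso h v).inv.app U).op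
        (((EtShriek.extZeroAdj v).unit.app ((EtShriek.extZero h).obj F)).hom.app
          (op ((EtShriek.compEtale h).obj U))
            (((EtShriek.extZeroAdj h).unit.app F).hom.app (op U) s))) =
    ((EtShriek.extZeroAdj (h ≫ v)).unit.app F).hom.app (op U) s := by
  have h1 := congrArg (fun k => k.hom.app (op U) s) (unit_cmpL (EtShriek.extZeroAdj h)
    (EtShriek.extZeroAdj v) (EtShriek.extZeroAdj (h ≫ v)) (rIso h v) F)
  exact h1

end Groth.Agent.Etdl.H2.CompShriek
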