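import Groth.Agent.Etdl.H2.ShriekQ
import Groth.Agent.Etdl.H2.ExtC
import Groth.Agent.Etcore.Stalks
import Groth.Agent.Sga4h.EtaleRes2
import Groth.Agent.Sga4B.DualAsm

/-!
# Excision

`k` algebraically closed, `h : W ⟶ V` etale, `V` locally of finite type over `k`, `x' : Spec k ⟶ W` such that
`x'` is the only point of `W` over `p = h x'`, `U₀' = W - x'`, `U₀ = V - p`.
* `rho : h_! (M[W] / M[U₀']) ⟶ M[V] / M[U₀]` is an isomorphism (`isIso_rho`);
* `exc : Ext^N(ℤ[V] / ℤ[U₀], F) → Ext^N(ℤ[W] / ℤ[U₀'], h^* F)` is bijective (`bijective_exc`).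
-/

set_option autoImplicit false
set_option linter.unusedSectionVars false
universe u

open CategoryTheory CategoryTheory.Limits CategoryTheory.Abelian AlgebraicGeometry Opposite
open Groth.Agent.EtpbcA Groth.Agent.EtpbcA.StalkTools Groth.Agent.Sga4B.DualShape
open Groth.Agent.Etdl.H2.StalkCoker Groth.Agent.Etdl.H2.SuppPt Groth.Agent.Etdl.H2.ShriekQ
open Groth.Agent.Sga4B.DualAsm

namespace Groth.Agent.Etdl.H2.Excision

section one

variable {V : Scheme.{u}} (M : Type) [AddCommGroup M] {U₀ : V.Etale} (g : U₀ ⟶ EtCoh.top V)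
  (p : V) (hp : Set.range g.left = ({p}ᶜ : Set V))

theorem fibPt_top {Ω : Type u} [Field Ω] [IsSepClosed Ω] (η : Spec (CommRingCat.of Ω) ⟶ V)
    (t : (Scheme.pointSmallEtale η).fiber.obj (EtCoh.top V)) : fibPt η t = η default :=
  hom_fibPt η t

include hp in
theorem isZero_stalk_of_ne {Ω : Type u} [Field Ω] [IsSepClosed Ω]
    (η : Spec (CommRingCat.of Ω) ⟶ V) (hη : η default ≠ p) :
    IsZero ((EtCoh.stalk η).obj (Q M g)) := by
  refine isZero_stalk M g η (fun t => ?_)
  have h1 : fibPt η t ∈ Set.range g.left := by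
    rw [hp, fibPt_top]
    exact hη
  obtain ⟨z, hz⟩ := h1
  obtain ⟨y, hy, -⟩ := exists_fib_lift η g t z hz
  exact ⟨y, hy⟩

include hp in
theorem vanOff_Q : VanOff (Q M g) p :=
  vanOff_of_isZero_stalk _ _ (fun _ _ _ η hη => isZero_stalk_of_ne M g p hp η hη)

include hp in
theorem bijective_germ_top {Ω : Type u} [Field Ω] [IsSepClosed Ω]
    (η : Spec (CommRingCat.of Ω) ⟶ V) (hη : η default = p) :
    Function.Bijective (fun m : M => germ η (topPt η) (qsec M g m)) := by
  refine StalkCoker.bijective_germ M g η (topPt η) (fun y hy => ?_) (fun t ht => ?_)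
  · have h1 : g.left (fibPt η y) = p := by
      rw [← fibPt_map, hy, fibPt_top]
      exact hη
    have h2 : p ∈ Set.range g.left := ⟨_, h1⟩
    rw [hp] at h2
    exact h2 rfl
  · exact absurd (eq_topPt η t) ht

end one

section two

variable {k : Type u} [Field k] [IsAlgClosed k] {W V : Scheme.{u}} (h : W ⟶ V) [Etale h]
  (c : V ⟶ Spec (CommRingCat.of k)) [LocallyOfFiniteType c] (M : Type) [AddCommGroup M]
  {U₀' : W.Etale} (g' : U₀' ⟶ EtCoh.top W) {U₀ : V.Etale} (g : U₀ ⟶ EtCoh.top V)
  (x' : W) (hx' : Set.range g'.left = ({x'}ᶜ : Set W))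
  (hx : Set.range g.left = ({h x'}ᶜ : Set V)) (huniq : ∀ w : W, h w = h x' → w = x')
  (hcl : IsClosed {h x'})

/-- `W → V` as a morphism in the etale site of `V`. -/
noncomputable abbrev wTop : (EtShriek.compEtale h).obj (EtCoh.top W) ⟶ EtCoh.top V :=
  (EtCore.topIsTerminal V).from _

theorem wTop_left (w : W) : (wTop h).left w = h w := by
  have h1 : (wTop h).left ≫ (EtCoh.top V).hom = ((EtShriek.compEtale h).obj (EtCoh.top W)).hom :=
    Over.w (wTop h).hom
  have h2 : ((EtShriek.compEtale h).obj (EtCoh.top W)).hom = h := Category.id_comp h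
  have h3 : (wTop h).left = h := (Category.comp_id _).symm.trans (h1.trans h2)
  exact congrArg (fun (l : W ⟶ V) => l w) h3

include hx' hx huniq in
theorem map_res_qsec (m : M) : ((EtShriek.restrAlong h).obj (Q M g)).obj.map g'.op
    ((Q M g).obj.map (wTop h).op (qsec M g m)) = 0 := by
  refine vanOff_Q M g (h x') hx ((EtShriek.compEtale h).obj U₀') (fun t ht => ?_) _
  have h1 : ((EtShriek.compEtale h).obj U₀').hom t = h (U₀'.hom t) :=
    Scheme.Hom.comp_apply U₀'.hom h t
  have h2 : U₀'.hom t = x' := huniq _ (h1.symm.trans ht)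
  have h3 : g'.left ≫ (EtCoh.top W).hom = U₀'.hom := Over.w g'.hom
  have h4 : g'.left = U₀'.hom := (Category.comp_id _).symm.trans h3
  have h5 : x' ∈ Set.range g'.left := ⟨t, by
    rw [← h2]
    exact congrArg (fun (l : U₀'.left ⟶ W) => l t) h4⟩
  rw [hx'] at h5
  exact h5 rfl

/-- `M[W] / M[U₀'] ⟶ h^* (M[V] / M[U₀])`. -/
noncomputable def rhoFlat : Q M g' ⟶ (EtShriek.restrAlong h).obj (Q M g) :=
  desc M g' (G := (EtShriek.restrAlong h).obj (Q M g))
    (((Q M g).obj.map (wTop h).op).hom.comp (qsec M g)) (map_res_qsec h M g' g x' hx' hx huniq)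

theorem rhoFlat_qsec (m : M) : (rhoFlat h M g' g x' hx' hx huniq).hom.app (op (EtCoh.top W))
    (qsec M g' m) = (Q M g).obj.map (wTop h).op (qsec M g m) := desc_qsec M g' _ _ m

/-- `h_! (M[W] / M[U₀']) ⟶ M[V] / M[U₀]`. -/
noncomputable def rho : (EtShriek.extZero h).obj (Q M g') ⟶ Q M g :=
  ((EtShriek.extZeroAdj h).homEquiv _ _).symm (rhoFlat h M g' g x' hx' hx huniq)

theorem unit_rho : (EtShriek.extZeroAdj h).unit.app (Q M g') ≫
    (EtShriek.restrAlong h).map (rho h M g' g x' hx' hx huniq) =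
      rhoFlat h M g' g x' hx' hx huniq := by
  have h1 := ((EtShriek.extZeroAdj h).homEquiv _ _).apply_symm_apply
    (rhoFlat h M g' g x' hx' hx huniq)
  rw [Adjunction.homEquiv_unit] at h1
  exact h1

theorem rho_eq : rho h M g' g x' hx' hx huniq =
    (EtShriek.extZero h).map (rhoFlat h M g' g x' hx' hx huniq) ≫
      (EtShriek.extZeroAdj h).counit.app (Q M g) := (EtShriek.extZeroAdj h).homEquiv_counit _ _ _

theorem rho_vsec (m : M) : (rho h M g' g x' hx' hx huniq).hom.app
    (op ((EtShriek.compEtale h).obj (EtCoh.top W))) (vsec h M g' m) =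
      (Q M g).obj.map (wTop h).op (qsec M g m) := by
  have h2 := congrArg (fun k => k.hom.app (op (EtCoh.top W)) (qsec M g' m))
    (unit_rho h M g' g x' hx' hx huniq)
  exact h2.trans (rhoFlat_qsec h M g' g x' hx' hx huniq m)

/-- Points of `W → V` over a geometric point of `V` which are not over `x'` come from `U₀'`. -/
theorem exists_lift_of_ne' {Ω : Type u} [Field Ω] [IsSepClosed Ω]
    (η : Spec (CommRingCat.of Ω) ⟶ V)
    (t : (Scheme.pointSmallEtale η).fiber.obj ((EtShriek.compEtale h).obj (EtCoh.top W)))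
    (hx' : Set.range g'.left = ({x'}ᶜ : Set W)) (ht : fibPt η t ≠ x') :
    ∃ y, (Scheme.pointSmallEtale η).fiber.map ((EtShriek.compEtale h).map g') y = t := by
  have h1 : fibPt η t ∈ Set.range g'.left := by
    rw [hx']
    exact ht
  obtain ⟨z, hz⟩ := h1
  obtain ⟨y, hy, -⟩ := exists_fib_lift η ((EtShriek.compEtale h).map g') t z hz
  exact ⟨y, hy⟩

include hx' in
theorem isZero_stalk_extZero {Ω : Type u} [Field Ω] [IsSepClosed Ω]
    (η : Spec (CommRingCat.of Ω) ⟶ V) (hη : η default ≠ h x') :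
    IsZero ((EtCoh.stalk η).obj ((EtShriek.extZero h).obj (Q M g'))) := by
  refine IsZero.of_iso ?_ ((EtCoh.stalk η).mapIso (isoQ h M g'))
  refine isZero_stalk M _ η (fun t => exists_lift_of_ne' h g' x' η t hx' (fun hh => hη ?_))
  rw [← hom_fibPt' η t, hh]

include c hx' hcl in
theorem bijective_germ_extZero {Ω : Type u} [Field Ω] [IsSepClosed Ω]
    (η : Spec (CommRingCat.of Ω) ⟶ V)
    (t : (Scheme.pointSmallEtale η).fiber.obj ((EtShriek.compEtale h).obj (EtCoh.top W)))
    (ht : fibPt η t = x') : Function.Bijective (fun m : M => germ η t (vsec h M g' m)) := by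
  have h0 := StalkCoker.bijective_germ M ((EtShriek.compEtale h).map g') η t
    (fun y hy => by
      have h1 : fibPt η ((Scheme.pointSmallEtale η).fiber.map
        ((EtShriek.compEtale h).map g') y) = x' := by
        rw [hy, ht]
      have h2 : x' ∈ Set.range g'.left := ⟨fibPt η y, h1⟩
      rw [hx'] at h2
      exact h2 rfl)
    (fun t₂ ht₂ => exists_lift_of_ne' h g' x' η t₂ hx' (fun hh => ht₂ ?_))
  · have h2 : Function.Bijective ((EtCoh.stalk η).map (isoQ h M g').hom) := by
      have h1 : IsIso ((EtCoh.stalk η).map (isoQ h M g').hom) := inferInstance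
      exact ConcreteCategory.bijective_of_isIso _
    have h3 : (fun m : M => germ η t (qsec M ((EtShriek.compEtale h).map g') m)) =
        (EtCoh.stalk η).map (isoQ h M g').hom ∘ (fun m : M => germ η t (vsec h M g' m)) := by
      funext m
      refine Eq.trans ?_ (stalk_map_germ η (isoQ h M g').hom t (vsec h M g' m)).symm
      exact congrArg _ (toQ_vsec h M g' m).symm
    rw [h3] at h0
    exact (Function.Bijective.of_comp_iff' h2 _).1 h0
  · apply Over.OverMorphism.ext
    have e1 : t₂.left ≫ ((EtShriek.compEtale h).obj (EtCoh.top W)).hom = η := Over.w t₂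
    have e2 : t.left ≫ ((EtShriek.compEtale h).obj (EtCoh.top W)).hom = η := Over.w t
    have hE : Etale ((EtShriek.compEtale h).obj (EtCoh.top W)).hom :=
      ((EtShriek.compEtale h).obj (EtCoh.top W)).prop
    have hcl' : IsClosed ({fibPt η t₂} : Set ((EtShriek.compEtale h).obj (EtCoh.top W)).left) := by
      refine isClosed_subset_fibre _ hcl _ ?_
      rintro _ rfl
      have h5 : h (fibPt η t₂) = h x' := congrArg _ hh
      have h6 := hom_fibPt' (v := h) η t₂
      have h7 := hom_fibPt η t₂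
      exact h7.trans (h6.symm.trans h5)
    refine Sga4h.BidGlobSky.spec_ext (((EtShriek.compEtale h).obj (EtCoh.top W)).hom ≫ c) t₂.left
      t.left (hh.trans ht.symm) hcl' ?_
    exact (Category.assoc _ _ _).symm.trans ((congrArg (fun z => z ≫ c) (e1.trans e2.symm)).trans
      (Category.assoc _ _ _))

include c hcl in
/-- `h_! (M[W] / M[U₀']) ≅ M[V] / M[U₀]`. -/
theorem isIso_rho : IsIso (rho h M g' g x' hx' hx huniq) := by
  rw [Etcore.Stalks.isIso_iff_stalks]
  intro Ω _ _ η
  by_cases hη : η default = h x'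
  · obtain ⟨t, ht, ht'⟩ := exists_fib_lift η (wTop h) (topPt η) x' (by
      rw [wTop_left, fibPt_top]
      exact hη.symm)
    have h1 := bijective_germ_extZero h c M g' x' hx' hcl η t ht'
    have h2 := bijective_germ_top M g (h x') hx η hη
    have h3 : (fun m : M => germ η (topPt η) (qsec M g m)) =
        (EtCoh.stalk η).map (rho h M g' g x' hx' hx huniq) ∘
          (fun m : M => germ η t (vsec h M g' m)) := by
      funext m
      refine Eq.trans ?_ (stalk_map_germ η (rho h M g' g x' hx' hx huniq) t (vsec h M g' m)).symm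
      rw [rho_vsec, germ_res, ht]
    rw [h3] at h2
    rw [ConcreteCategory.isIso_iff_bijective]
    exact (Function.Bijective.of_comp_iff _ h1).1 h2
  · exact (isZero_stalk_extZero h M g' x' hx' η hη).isIso
      (isZero_stalk_of_ne M g (h x') hx η hη) _

/-- The excision map `Ext^N(M[V] / M[U₀], F) → Ext^N(M[W] / M[U₀'], h^* F)`. -/
noncomputable def exc (F : EtCoh.Ab V) (N : ℕ) : Ext.{u + 1} (Q M g) F N →+
    Ext.{u + 1} (Q M g') ((EtShriek.restrAlong h).obj F) N :=
  Etcore.ExtMap.extMap (EtShriek.restrAlong h) (rhoFlat h M g' g x' hx' hx huniq) F N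

theorem exc_apply (F : EtCoh.Ab V) (N : ℕ) (e : Ext.{u + 1} (Q M g) F N) :
    exc h M g' g x' hx' hx huniq F N e =
      (Ext.mk₀ (rhoFlat h M g' g x' hx' hx huniq)).comp
        (e.mapExactFunctor (EtShriek.restrAlong h)) (zero_add N) := rfl

include c hcl in
theorem bijective_exc (F : EtCoh.Ab V) (N : ℕ) :
    Function.Bijective (exc h M g' g x' hx' hx huniq F N) := by
  have := isIso_rho h c M g' g x' hx' hx huniq hcl
  have h1 : Function.Bijective (fun e : Ext.{u + 1} (Q M g) F N =>
      (Ext.mk₀ (rho h M g' g x' hx' hx huniq)).comp e (zero_add N)) := by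
    refine Function.bijective_iff_has_inverse.2
      ⟨fun e => (Ext.mk₀ (inv (rho h M g' g x' hx' hx huniq))).comp e (zero_add N),
        fun e => ?_, fun e => ?_⟩
    · dsimp only
      rw [Ext.mk₀_comp_mk₀_assoc, IsIso.inv_hom_id, Ext.mk₀_id_comp]
    · dsimp only
      rw [Ext.mk₀_comp_mk₀_assoc, IsIso.hom_inv_id, Ext.mk₀_id_comp]
  have h2 : (exc h M g' g x' hx' hx huniq F N : _ → _) =
      (Etcore.ExtAdj.extAdj (EtShriek.extZeroAdj h) (Q M g') F N) ∘
        (fun e : Ext.{u + 1} (Q M g) F N =>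
          (Ext.mk₀ (rho h M g' g x' hx' hx huniq)).comp e (zero_add N)) := by
    funext e
    refine Eq.trans ?_ (Etcore.ExtAdj.extAdj_apply (EtShriek.extZeroAdj h) (Q M g') F N _).symm
    rw [Ext.mapExactFunctor_comp, Ext.mapExactFunctor_mk₀, ← Ext.comp_assoc_of_second_deg_zero,
      Ext.mk₀_comp_mk₀, exc_apply]
    exact congrArg (fun z => (Ext.mk₀ z).comp (e.mapExactFunctor (EtShriek.restrAlong h))
      (zero_add N)) (unit_rho h M g' g x' hx' hx huniq).symm
  rw [h2]
  exact (AddEquiv.bijective _).comp h1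

end two

end Groth.Agent.Etdl.H2.Excision
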