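import Groth.Agent.Etdl.H2.ClassA
import Groth.Agent.Etdl.H2.Excision
import Groth.Agent.Etdl.H2.CompShriek
import Groth.Agent.Etdl.H2.ClassAbs

/-!
# Class sections and class maps for a composite of etale morphisms

`h : W ⟶ V`, `v : V ⟶ P` etale, `y : Spec k ⟶ W` such that `y` is the only point of `W` over its image in `V`.
* `IsClassSecG v g x ξ hξ s`: `IsClassSec` with `x ≫ v = ξ`;
* `isClassSec_comp`: `s ≫ (h_! v_!) ≫ v_!(rho)` is a class section if `s` is;
* `beta F : (h ≫ v)_! h^* F ⟶ v_! F`;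
* `classMap_exc`: `classMap (exc u)` followed by `beta` is `classMap u`;
* `bijective_pushClass`: `Ext^N(ℤ[W] / ℤ[W - y], h^* F) → H^N(P, (h ≫ v)_! h^* F) → H^N(P, v_! F)` is bijective.
-/

set_option autoImplicit false
set_option linter.unusedSectionVars false
universe u

open CategoryTheory CategoryTheory.Limits CategoryTheory.Abelian AlgebraicGeometry Opposite
open Groth.Agent.EtpbcA Groth.Agent.EtpbcA.StalkTools Groth.Agent.Sga4B.DualShape
open Groth.Agent.Etdl.H2.StalkCoker Groth.Agent.Etdl.H2.SuppPt Groth.Agent.Etdl.H2.ShriekQ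
open Groth.Agent.Etdl.H2.ExtC Groth.Agent.Etdl.H2.DualEt Groth.Agent.Etdl.H2.ClassA
open Groth.Agent.Etdl.H2.CompShriek Groth.Agent.Etdl.H2.Excision
open Groth.Agent.Etrest.ModAb Groth.Agent.Sga4B
open Groth.Agent.Sga4B.DualAsm Groth.Agent.Sga4B.LMLS

namespace Groth.Agent.Etdl.H2.ClassComp

section gen

variable {Ω : Type u} [Field Ω] [IsSepClosed Ω] {V P : Scheme.{u}} (v : V ⟶ P) [Etale v]
  {U₀ : V.Etale} (g : U₀ ⟶ EtCoh.top V) (x : Spec (CommRingCat.of Ω) ⟶ V)
  (ξ : Spec (CommRingCat.of Ω) ⟶ P) (hξ : x ≫ v = ξ)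

/-- The point of the etale `P`-scheme `V` given by `x`. -/
noncomputable def vptG : (Scheme.pointSmallEtale ξ).fiber.obj
    ((EtShriek.compEtale v).obj (EtCoh.top V)) :=
  (Etcore.ShriekStalk.fiberHom v ξ x hξ).app (EtCoh.top V) (topPt x)

theorem vptG_left : (vptG v x ξ hξ).left = x := rfl

/-- `s : ℤ_P ⟶ v_! (ℤ[V] / ℤ[U₀])` has at `x` the germ of the canonical section. -/
def IsClassSecG (s : Z P ⟶ (EtShriek.extZero v).obj (Q ℤ g)) : Prop :=
  delta ξ _ s = germ ξ (vptG v x ξ hξ) (vsec v ℤ g 1)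

end gen

theorem isClassSecG_iff {k : Type u} [Field k] [IsAlgClosed k] {V P : Scheme.{u}} (v : V ⟶ P)
    [Etale v] {U₀ : V.Etale} (g : U₀ ⟶ EtCoh.top V) (x : Spec (CommRingCat.of k) ⟶ V)
    (ξ : Spec (CommRingCat.of k) ⟶ P) (hξ : x ≫ v = ξ)
    (s : Z P ⟶ (EtShriek.extZero v).obj (Q ℤ g)) :
    IsClassSecG v g x ξ hξ s ↔ IsClassSec v g x s := by
  subst hξ
  exact Iff.rfl

section comp

variable {W V P : Scheme.{u}} (h : W ⟶ V) [Etale h] (v : V ⟶ P) [Etale v]
  {U₀' : W.Etale} (g' : U₀' ⟶ EtCoh.top W) {U₀ : V.Etale} (g : U₀ ⟶ EtCoh.top V)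
  (x' : W) (hx' : Set.range g'.left = ({x'}ᶜ : Set W))
  (hx : Set.range g.left = ({h x'}ᶜ : Set V)) (huniq : ∀ w : W, h w = h x' → w = x')

/-- The section of `v_! (ℤ[V] / ℤ[U₀])` attached to a section of `(h ≫ v)_! (ℤ[W] / ℤ[U₀'])`. -/
noncomputable def secV (s : Z P ⟶ (EtShriek.extZero (h ≫ v)).obj (Q ℤ g')) :
    Z P ⟶ (EtShriek.extZero v).obj (Q ℤ g) :=
  s ≫ (sIso h v).inv.app (Q ℤ g') ≫ (EtShriek.extZero v).map (rho h ℤ g' g x' hx' hx huniq)

/-- `(h ≫ v)_! h^* F ⟶ v_! F`. -/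
noncomputable def beta (F : EtCoh.Ab V) :
    (EtShriek.extZero (h ≫ v)).obj ((EtShriek.restrAlong h).obj F) ⟶ (EtShriek.extZero v).obj F :=
  (sIso h v).inv.app ((EtShriek.restrAlong h).obj F) ≫
    (EtShriek.extZero v).map ((EtShriek.extZeroAdj h).counit.app F)

theorem classMap_exc (s : Z P ⟶ (EtShriek.extZero (h ≫ v)).obj (Q ℤ g')) (F : EtCoh.Ab V) (N : ℕ)
    (u : Ext.{u + 1} (Q ℤ g) F N) :
    (classMap (h ≫ v) g' s ((EtShriek.restrAlong h).obj F) N
      (exc h ℤ g' g x' hx' hx huniq F N u)).comp (Ext.mk₀ (beta h v F)) (add_zero N) =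
    classMap v g (secV h v g' g x' hx' hx huniq s) F N u := by
  have h1 := ClassAbs.class_comp (EtShriek.extZeroAdj h) (EtShriek.extZero v)
    (EtShriek.extZero (h ≫ v)) (sIso h v) (rhoFlat h ℤ g' g x' hx' hx huniq) s u
  rw [← rho_eq] at h1
  exact h1

section germs

variable {Ω : Type u} [Field Ω] [IsSepClosed Ω] (y : Spec (CommRingCat.of Ω) ⟶ W)
  (ξ : Spec (CommRingCat.of Ω) ⟶ P) (hξ : y ≫ h ≫ v = ξ)

theorem isClassSec_comp (s : Z P ⟶ (EtShriek.extZero (h ≫ v)).obj (Q ℤ g'))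
    (hs : IsClassSecG (h ≫ v) g' y ξ hξ s) :
    IsClassSecG v g (y ≫ h) ξ ((Category.assoc _ _ _).trans hξ)
      (secV h v g' g x' hx' hx huniq s) := by
  have hs' : delta ξ _ s = germ ξ (vptG (h ≫ v) y ξ hξ) (vsec (h ≫ v) ℤ g' 1) := hs
  let t2 : (Scheme.pointSmallEtale ξ).fiber.obj
      ((EtShriek.compEtale v).obj ((EtShriek.compEtale h).obj (EtCoh.top W))) :=
    (Scheme.pointSmallEtale ξ).fiber.map ((cIso h v).inv.app (EtCoh.top W))
      (vptG (h ≫ v) y ξ hξ)
  let w : EtCoh.sect ((EtShriek.extZero v).obj ((EtShriek.extZero h).obj (Q ℤ g')))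
      ((EtShriek.compEtale v).obj ((EtShriek.compEtale h).obj (EtCoh.top W))) :=
    ((EtShriek.extZeroAdj v).unit.app ((EtShriek.extZero h).obj (Q ℤ g'))).hom.app
      (op ((EtShriek.compEtale h).obj (EtCoh.top W))) (vsec h ℤ g' 1)
  -- the germ of the class section in terms of `w`
  have e1 : (EtCoh.stalk ξ).map ((sIso h v).hom.app (Q ℤ g')) (germ ξ t2 w) =
      germ ξ (vptG (h ≫ v) y ξ hξ) (vsec (h ≫ v) ℤ g' 1) := by
    have e2 : germ ξ t2 w = germ ξ (vptG (h ≫ v) y ξ hξ)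
        (((EtShriek.extZero v).obj ((EtShriek.extZero h).obj (Q ℤ g'))).obj.map
          ((cIso h v).inv.app (EtCoh.top W)).op w) := (germ_res ξ _ _ _).symm
    rw [e2, stalk_map_germ]
    exact congrArg (germ ξ (vptG (h ≫ v) y ξ hξ))
      (sIso_hom_unit h v (Q ℤ g') (EtCoh.top W) (qsec ℤ g' 1))
  have e3 : delta ξ _ (s ≫ (sIso h v).inv.app (Q ℤ g')) = germ ξ t2 w := by
    rw [delta_comp, hs', ← e1]
    have e4 : (EtCoh.stalk ξ).map ((sIso h v).hom.app (Q ℤ g')) ≫
        (EtCoh.stalk ξ).map ((sIso h v).inv.app (Q ℤ g')) = 𝟙 _ := by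
      rw [← Functor.map_comp, Iso.hom_inv_id_app, CategoryTheory.Functor.map_id]
    exact ConcreteCategory.congr_hom e4 (germ ξ t2 w)
  have e5 : delta ξ _ (secV h v g' g x' hx' hx huniq s) =
      (EtCoh.stalk ξ).map ((EtShriek.extZero v).map (rho h ℤ g' g x' hx' hx huniq))
        (germ ξ t2 w) := by
    rw [← e3]
    exact delta_comp ξ (s ≫ (sIso h v).inv.app (Q ℤ g')) _
  change delta ξ _ (secV h v g' g x' hx' hx huniq s) = _
  rw [e5, stalk_map_germ]
  have e6 := map_unit v (rho h ℤ g' g x' hx' hx huniq) ((EtShriek.compEtale h).obj (EtCoh.top W))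
    (vsec h ℤ g' 1)
  rw [rho_vsec] at e6
  have e7 : ((EtShriek.extZeroAdj v).unit.app (Q ℤ g)).hom.app
      (op ((EtShriek.compEtale h).obj (EtCoh.top W))) ((Q ℤ g).obj.map (wTop h).op (qsec ℤ g 1)) =
      ((EtShriek.extZero v).obj (Q ℤ g)).obj.map ((EtShriek.compEtale v).map (wTop h)).op
        (vsec v ℤ g 1) :=
    ConcreteCategory.congr_hom
      (((EtShriek.extZeroAdj v).unit.app (Q ℤ g)).hom.naturality (wTop h).op) (qsec ℤ g 1)
  refine (congrArg (germ ξ t2) (e6.trans e7)).trans ?_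
  rw [germ_res]
  refine congrArg (fun t => germ ξ t (vsec v ℤ g 1)) ?_
  apply Over.OverMorphism.ext
  have e8 : (wTop h).left = h := by
    have h1 : (wTop h).left ≫ (EtCoh.top V).hom =
      ((EtShriek.compEtale h).obj (EtCoh.top W)).hom := Over.w (wTop h).hom
    have h2 : ((EtShriek.compEtale h).obj (EtCoh.top W)).hom = h := Category.id_comp h
    exact (Category.comp_id _).symm.trans (h1.trans h2)
  change (y ≫ 𝟙 W) ≫ (wTop h).left = y ≫ h
  exact congrArg₂ (fun a b => a ≫ b) (Category.comp_id y) e8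

end germs

end comp

section main

variable {k : Type u} [Field k] [IsAlgClosed k] {W V P : Scheme.{u}} (h : W ⟶ V) [Etale h]
  (v : V ⟶ P) [Etale v] (a : P ⟶ Spec (CommRingCat.of k)) [LocallyOfFiniteType a]
  {U₀' : W.Etale} (g' : U₀' ⟶ EtCoh.top W) {U₀ : V.Etale} (g : U₀ ⟶ EtCoh.top V) [Mono g]
  (y : Spec (CommRingCat.of k) ⟶ W) (hy : Set.range g'.left = ({y default}ᶜ : Set W))
  (hx : Set.range g.left = ({h (y default)}ᶜ : Set V))
  (huniq : ∀ w : W, h w = h (y default) → w = y default)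
  (hcl : IsClosed {v (h (y default))}) {n N : ℕ}

include a hy hx huniq hcl in
/-- The class map of `W` followed by `H^N(P, (h ≫ v)_! h^* F) → H^N(P, v_! F)` is bijective. -/
theorem bijective_pushClass (hD : DualTr v n N)
    (s : Z P ⟶ (EtShriek.extZero (h ≫ v)).obj (Q ℤ g')) (hs : IsClassSec (h ≫ v) g' y s)
    (F : EtCoh.Ab V) (hF : Nonempty (F ≅ EtCoh.const V (ZMod n))) :
    Function.Bijective (fun e : Ext.{u + 1} (Q ℤ g') ((EtShriek.restrAlong h).obj F) N =>
      (classMap (h ≫ v) g' s ((EtShriek.restrAlong h).obj F) N e).comp (Ext.mk₀ (beta h v F))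
        (add_zero N)) := by
  have hx2 : Set.range g.left = ({(y ≫ h) default}ᶜ : Set V) := by
    rw [hx, Scheme.Hom.comp_apply]
  have hcl2 : IsClosed {((y ≫ h) ≫ v) default} := by
    rw [Scheme.Hom.comp_apply, Scheme.Hom.comp_apply]
    exact hcl
  have hclV : IsClosed {h (y default)} := by
    have h1 : IsClosed (v ⁻¹' {v (h (y default))}) := hcl.preimage v.continuous
    refine isClosed_subset_fibre (Scheme.Etale.mk v) hcl _ ?_
    rintro _ rfl
    rfl
  have hs2 : IsClassSec v g (y ≫ h) (secV h v g' g (y default) hy hx huniq s) :=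
    (isClassSecG_iff v g (y ≫ h) _ rfl _).1
      ((isClassSec_comp h v g' g (y default) hy hx huniq y _ (Category.assoc _ _ _).symm s
        ((isClassSecG_iff (h ≫ v) g' y _ _ s).2 hs)))
  have h1 := bijective_class v a g (y ≫ h) hx2 hcl2 n hD _ hs2 F hF
  have h2 := bijective_exc h (v ≫ a) ℤ g' g (y default) hy hx huniq hclV F N
  have h3 : (classMap v g (secV h v g' g (y default) hy hx huniq s) F N : _ → _) =
      (fun e : Ext.{u + 1} (Q ℤ g') ((EtShriek.restrAlong h).obj F) N =>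
      (classMap (h ≫ v) g' s ((EtShriek.restrAlong h).obj F) N e).comp (Ext.mk₀ (beta h v F))
        (add_zero N)) ∘ (exc h ℤ g' g (y default) hy hx huniq F N) := by
    funext u
    exact (classMap_exc h v g' g (y default) hy hx huniq s F N u).symm
  rw [h3] at h1
  exact (Function.Bijective.of_comp_iff _ h2).1 h1

end main

end Groth.Agent.Etdl.H2.ClassComp
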