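import Groth.Agent.Sga4h.BidRed538Geo
import Groth.Agent.UnramA.SmoothFibreDim
import Groth.Agent.S0115

/-!
# Smoothness of relative dimension `d` over a field descends along étale surjections
-/

set_option autoImplicit false

universe u

open CategoryTheory CategoryTheory.Limits AlgebraicGeometry

namespace Groth.Agent.Etdl.H2.SmoothDesc

variable {V X : Scheme.{u}} {κ : Type u} [Field κ]

theorem smooth_etale_comp {T Y Z : Scheme.{u}} (g : T ⟶ Y) (h : Y ⟶ Z) (n : ℕ) [Etale g]
    (hh : SmoothOfRelativeDimension n h) : SmoothOfRelativeDimension n (g ≫ h) := by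
  have h2 : SmoothOfRelativeDimension (0 + n) (g ≫ h) := inferInstance
  rwa [zero_add] at h2

/-- Smoothness of relative dimension `d` over a field descends along étale surjections. -/
theorem smoothOfRelativeDimension (w : V ⟶ X) [Etale w] [Surjective w]
    (q : X ⟶ Spec (CommRingCat.of κ)) (d : ℕ) (h : SmoothOfRelativeDimension d (w ≫ q)) :
    SmoothOfRelativeDimension d q := by
  have hs : Smooth (w ≫ q) := SmoothOfRelativeDimension.smooth d _
  have hq : Smooth q := Groth.Agent.S0115.result w q
  have hloc := fun x : X => Sga4h.BidRed538Geo.exists_relDim q x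
  choose m U hx hU using hloc
  have hm : ∀ x, m x = d := by
    intro x
    obtain ⟨v, hv⟩ := w.surjective x
    let W : V.Opens := w ⁻¹ᵁ (U x)
    have hvW : v ∈ W := by
      change w v ∈ U x
      rw [hv]
      exact hx x
    have e1 : W.ι ≫ w ≫ q = (w ∣_ (U x)) ≫ (U x).ι ≫ q := by
      rw [← Category.assoc, ← Category.assoc, morphismRestrict_ι]
    have h1 : SmoothOfRelativeDimension d (W.ι ≫ w ≫ q) := smooth_etale_comp _ _ d h
    have h2 : SmoothOfRelativeDimension (m x) (W.ι ≫ w ≫ q) := by
      rw [e1]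
      exact smooth_etale_comp _ _ _ (hU x)
    have h3 := @UnramA.SmoothFibreDim.localDim_eq κ _ d _ (W.ι ≫ w ≫ q) h1 ⟨v, hvW⟩
    have h4 := @UnramA.SmoothFibreDim.localDim_eq κ _ (m x) _ (W.ι ≫ w ≫ q) h2 ⟨v, hvW⟩
    have h5 := h4.symm.trans h3
    exact_mod_cast h5
  have : IsZariskiLocalAtSource (@SmoothOfRelativeDimension.{u} d) :=
    HasRingHomProperty.instIsZariskiLocalAtSource (P := @SmoothOfRelativeDimension.{u} d)
  rw [IsZariskiLocalAtSource.iff_of_iSup_eq_top (P := @SmoothOfRelativeDimension.{u} d) U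
    (top_le_iff.mp fun x _ => TopologicalSpace.Opens.mem_iSup.mpr ⟨x, hx x⟩)]
  intro x
  have := hU x
  rwa [hm x] at this

end Groth.Agent.Etdl.H2.SmoothDesc
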