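import Groth.Agent.EtSix.H42.Pairing
import Groth.Agent.Sga4B.PkgB
import Groth.Agent.Etdl.H2.DualEt
import Groth.Agent.Etdl.H2.SmoothDesc

/-!
# Duality with a bijective trace for schemes etale over a proper scheme

`dualTr`: `DualTr v n (2 * d)` for `v : V ⟶ P` etale, `P` proper over an algebraically closed field `k`, `V`
connected and smooth of relative dimension `d` over `k`, `n` invertible in `k`.
-/

set_option autoImplicit false
set_option linter.unusedSectionVars false
universe u

open CategoryTheory CategoryTheory.Limits CategoryTheory.Abelian AlgebraicGeometry Opposite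
open Groth.Agent.Etdl.H2.DualEt

namespace Groth.Agent.Etdl.H2.DualProper

variable {k : Type u} [Field k] [IsAlgClosed k] {V X P : Scheme.{u}}
  (a : P ⟶ Spec (CommRingCat.of k)) [IsProper a]

/-- Duality with a bijective trace for an open subscheme of a proper scheme. -/
theorem dualTr_open (j : X ⟶ P) [IsOpenImmersion j] [ConnectedSpace X] (d : ℕ)
    [SmoothOfRelativeDimension d (j ≫ a)] (n : ℕ) (hn : (n : k) ≠ 0) : DualTr j n (2 * d) :=
  EtSix.H42.Pairing.duality_tr a j d n
    (Nat.pos_of_ne_zero fun h => hn (by rw [h, Nat.cast_zero])) (Sga4B.PkgB.pkg k n hn d)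

theorem DualTr.congr {v v' : V ⟶ P} [Etale v] [Etale v'] (h : v = v') {n N : ℕ}
    (hD : DualTr v n N) : DualTr v' n N := by
  subst h
  exact hD

/-- **Duality with a bijective trace for a scheme etale over a proper scheme.** -/
theorem dualTr (v : V ⟶ P) [Etale v] [ConnectedSpace V] (d : ℕ)
    (hd : SmoothOfRelativeDimension d (v ≫ a)) (n : ℕ) (hn : (n : k) ≠ 0) : DualTr v n (2 * d) := by
  let X : P.Opens := ⟨Set.range v, v.isOpenMap.isOpen_range⟩
  let w : V ⟶ X.toScheme := IsOpenImmersion.lift X.ι v (by
    rw [Scheme.Opens.range_ι]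
    exact subset_rfl)
  have hw : w ≫ X.ι = v := IsOpenImmersion.lift_fac _ _ _
  have hwe : Etale (w ≫ X.ι) := by rw [hw]; infer_instance
  have : Etale w := by
    have := hwe
    exact MorphismProperty.of_postcomp (W := @Etale) (W' := @Etale) w X.ι inferInstance hwe
  have : Surjective w := ⟨by
    rintro ⟨y, ⟨z, hz⟩⟩
    refine ⟨z, ?_⟩
    apply X.ι.isOpenEmbedding.injective
    have h1 : X.ι (w z) = v z := by
      rw [← Scheme.Hom.comp_apply, hw]
    exact h1.trans hz⟩
  have : ConnectedSpace X.toScheme := w.surjective.connectedSpace w.continuous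
  have h2 : SmoothOfRelativeDimension d (w ≫ X.ι ≫ a) := by
    rw [← Category.assoc, hw]
    exact hd
  have h3 : SmoothOfRelativeDimension d (X.ι ≫ a) :=
    SmoothDesc.smoothOfRelativeDimension w (X.ι ≫ a) d h2
  have h4 : DualTr X.ι n (2 * d) := dualTr_open a X.ι d n hn
  exact DualTr.congr hw (DualEt.DualTr.comp w X.ι n (2 * d)
    (Nat.pos_of_ne_zero fun h => hn (by rw [h, Nat.cast_zero])) h4)

end Groth.Agent.Etdl.H2.DualProper
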