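import Groth.Agent.Etdl.H440.Iface
import Groth.Agent.Etdl.H2.ClassComp

/-!
# Class maps of route C: statements (A1), (A2) from duality with a bijective trace

* `sTop`, `isClassSec_sTop`: a section of `w_! (ℤ[T] / ℤ[O])` over `Y` restricting to the unit section is a class
  section in the sense of `ClassA`;
* `bijective_cl_of_dualTr`: (A1); `nonempty_equiv_of_dualTr`: (A2), from `DualTr w n (2 * d)`.
-/

set_option autoImplicit false
set_option linter.dupNamespace false
set_option linter.unusedSectionVars false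
universe u
open CategoryTheory CategoryTheory.Limits AlgebraicGeometry Opposite CategoryTheory.Abelian
open Groth.Agent.Sga4B.DualShape Groth.Agent.Sga4B.EUConst
open Groth.Agent.EtpbcB.BCCalc
open Groth.Agent.EtpbcA Groth.Agent.EtpbcA.StalkTools
open scoped Groth.Agent.Etcore.EtInst
open Groth.Agent.Etcore.EtInst
open Groth.Agent.Etdl.H440.CF
open Groth.Agent.Etdl.H2.StalkCoker Groth.Agent.Etdl.H2.SuppPt Groth.Agent.Etdl.H2.ShriekQ
open Groth.Agent.Etdl.H2.ClassA Groth.Agent.Etdl.H2.DualEt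

namespace Groth.Agent.Etdl.H2.IfaceA

section iota

variable {W : Scheme.{u}} {O T : W.Etale} (o : O ⟶ T) (t : T ⟶ EtCoh.top W) [IsIso t]

/-- `ℤ[T] / ℤ[O] ≅ ℤ[W] / ℤ[O]` for `T ≅ W`. -/
noncomputable def iota : ZQ o ≅ Q ℤ (o ≫ t) :=
  cokernel.mapIso ((JF W ℤ).map o) ((JF W ℤ).map (o ≫ t)) (Iso.refl _) (asIso ((JF W ℤ).map t)) (by
    rw [asIso_hom, Iso.refl_hom, Functor.map_comp, Category.id_comp])

theorem π_iota : cokernel.π ((JF W ℤ).map o) ≫ (iota o t).hom =
    (JF W ℤ).map t ≫ cokernel.π ((JF W ℤ).map (o ≫ t)) := by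
  rw [iota, cokernel.mapIso_hom]
  exact cokernel.π_desc _ _ _

theorem iota_qs : (iota o t).hom.hom.app (op T) (qs o) =
    (Q ℤ (o ≫ t)).obj.map t.op (qsec ℤ (o ≫ t) 1) := by
  have h1 := congrArg (fun k => k.hom.app (op T) (jun ℤ T 1)) (π_iota o t)
  refine h1.trans ?_
  change (cokernel.π ((JF W ℤ).map (o ≫ t))).hom.app (op T)
    (((JF W ℤ).map t).hom.app (op T) (jun ℤ T 1)) = _
  rw [jun_map]
  exact ConcreteCategory.congr_hom
    ((cokernel.π ((JF W ℤ).map (o ≫ t))).hom.naturality t.op) (jun ℤ (EtCoh.top W) 1)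

/-- The canonical section of `ℤ[W] / ℤ[O]`, in terms of that of `ℤ[T] / ℤ[O]`. -/
theorem iota_qs' : (iota o t).hom.hom.app (op (EtCoh.top W)) ((ZQ o).obj.map (inv t).op (qs o)) =
    qsec ℤ (o ≫ t) 1 := by
  refine (ConcreteCategory.congr_hom ((iota o t).hom.hom.naturality (inv t).op) (qs o)).trans ?_
  refine (congrArg ((Q ℤ (o ≫ t)).obj.map (inv t).op) (iota_qs o t)).trans ?_
  have h : (Q ℤ (o ≫ t)).obj.map t.op ≫ (Q ℤ (o ≫ t)).obj.map (inv t).op = 𝟙 _ := by
    rw [← Functor.map_comp, ← op_comp, IsIso.inv_hom_id, op_id, CategoryTheory.Functor.map_id]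
  exact ConcreteCategory.congr_hom h (qsec ℤ (o ≫ t) 1)

end iota

section sec

variable {W Y : Scheme.{u}} (w : W ⟶ Y) [Etale w] {O T : W.Etale} (o : O ⟶ T)
  (t : T ⟶ EtCoh.top W) [IsIso t]
  (s : EtCoh.sect ((EtShriek.extZero w).obj (ZQ o)) (EtCoh.top Y))

/-- The morphism `ℤ_Y ⟶ w_! (ℤ[W] / ℤ[O])` attached to `s`. -/
noncomputable def sTop : EtCoh.const Y ℤ ⟶ (EtShriek.extZero w).obj (Q ℤ (o ≫ t)) :=
  (Sga4B.JFComp.topIso ℤ Y).inv ≫ sHom s ≫ (EtShriek.extZero w).map (iota o t).hom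

theorem sTop_one : (sTop w o t s).hom.app (op (EtCoh.top Y)) (one Y) =
    ((EtShriek.extZero w).map (iota o t).hom).hom.app (op (EtCoh.top Y)) s := by
  have h1 : (Sga4B.JFComp.topIso ℤ Y).inv.hom.app (op (EtCoh.top Y)) (one Y) =
      jun ℤ (EtCoh.top Y) 1 := by
    have h2 := congrArg (fun k => k.hom.app (op (EtCoh.top Y)) (Jshriek.univ (EtCoh.top Y) ℤ 1))
      (Sga4B.JFComp.topIso ℤ Y).hom_inv_id
    exact h2
  change ((EtShriek.extZero w).map (iota o t).hom).hom.app (op (EtCoh.top Y))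
    ((sHom s).hom.app (op (EtCoh.top Y))
      ((Sga4B.JFComp.topIso ℤ Y).inv.hom.app (op (EtCoh.top Y)) (one Y))) = _
  rw [h1, sHom_jun]

variable {k : Type u} [Field k] [IsAlgClosed k] (x : Spec (CommRingCat.of k) ⟶ W)

/-- A section of `w_! (ℤ[T] / ℤ[O])` over `Y` which is the unit section on some `R ⟶ T` through which `x`
factors is a class section. -/
theorem isClassSec_sTop_of_res {R : Y.Etale} (r : R ⟶ EtCoh.top Y)
    (lam : R ⟶ (EtShriek.compEtale w).obj T)
    (hs : ((EtShriek.extZero w).obj (ZQ o)).obj.map r.op s =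
      ((EtShriek.extZero w).obj (ZQ o)).obj.map lam.op ((shCF w).un (qs o)))
    (pt : (Scheme.pointSmallEtale (x ≫ w)).fiber.obj R)
    (hpt : (Scheme.pointSmallEtale (x ≫ w)).fiber.map lam pt =
      (Scheme.pointSmallEtale (x ≫ w)).fiber.map ((EtShriek.compEtale w).map (inv t))
        (vpt w x)) : IsClassSec w (o ≫ t) x (sTop w o t s) := by
  change delta (x ≫ w) _ (sTop w o t s) = germ (x ≫ w) (vpt w x) (vsec w ℤ (o ≫ t) 1)
  rw [delta_apply, sTop_one]
  have e3 : (Scheme.pointSmallEtale (x ≫ w)).fiber.map r pt = topPt (x ≫ w) := eq_topPt _ _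
  rw [← e3, ← germ_res]
  -- the restriction to `R`
  have e1 : ((EtShriek.extZero w).obj (Q ℤ (o ≫ t))).obj.map r.op
      (((EtShriek.extZero w).map (iota o t).hom).hom.app (op (EtCoh.top Y)) s) =
      ((EtShriek.extZero w).obj (Q ℤ (o ≫ t))).obj.map lam.op
        ((shCF w).un ((iota o t).hom.hom.app (op T) (qs o))) := by
    refine (ConcreteCategory.congr_hom (((EtShriek.extZero w).map (iota o t).hom).hom.naturality
      r.op) s).symm.trans ?_
    refine (congrArg (((EtShriek.extZero w).map (iota o t).hom).hom.app _) hs).trans ?_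
    refine (ConcreteCategory.congr_hom (((EtShriek.extZero w).map (iota o t).hom).hom.naturality
      lam.op) _).trans ?_
    exact congrArg (((EtShriek.extZero w).obj (Q ℤ (o ≫ t))).obj.map lam.op)
      ((shCF w).map_un (iota o t).hom (qs o))
  refine (congrArg (germ (x ≫ w) pt) e1).trans ?_
  rw [germ_res, hpt, ← germ_res]
  refine congrArg (germ (x ≫ w) (vpt w x)) ?_
  refine ((shCF w).un_res (inv t) _).symm.trans ?_
  refine congrArg (shCF w).un ?_
  refine (congrArg ((Q ℤ (o ≫ t)).obj.map (inv t).op) (iota_qs o t)).trans ?_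
  have h : (Q ℤ (o ≫ t)).obj.map t.op ≫ (Q ℤ (o ≫ t)).obj.map (inv t).op = 𝟙 _ := by
    rw [← Functor.map_comp, ← op_comp, IsIso.inv_hom_id, op_id, CategoryTheory.Functor.map_id]
  exact ConcreteCategory.congr_hom h (qsec ℤ (o ≫ t) 1)

theorem isClassSec_sTop (m : (EtShriek.compEtale w).obj T ⟶ EtCoh.top Y)
    (hs : ((EtShriek.extZero w).obj (ZQ o)).obj.map m.op s = (shCF w).un (qs o)) :
    IsClassSec w (o ≫ t) x (sTop w o t s) := by
  refine isClassSec_sTop_of_res w o t s x m (𝟙 _) ?_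
    ((Scheme.pointSmallEtale (x ≫ w)).fiber.map ((EtShriek.compEtale w).map (inv t)) (vpt w x)) ?_
  · rw [hs]
    exact (ConcreteCategory.congr_hom (((EtShriek.extZero w).obj (ZQ o)).obj.map_id
      (op ((EtShriek.compEtale w).obj T))) ((shCF w).un (qs o))).symm
  · rw [CategoryTheory.Functor.map_id]
    rfl

end sec

section main

variable {k : Type u} [Field k] [IsAlgClosed k] {Y W : Scheme.{u}}
  (p : Y ⟶ Spec (CommRingCat.of k)) [LocallyOfFiniteType p] [IsSeparated p] (w : W ⟶ Y) [Etale w]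
  (E : EtCoh.Ab W) {n N : ℕ}
  (hE : Nonempty (E ≅ EtCoh.const W (ZMod n))) (x : Spec (CommRingCat.of k) ⟶ W)
  (hx : x ≫ w ≫ p = 𝟙 _)
  {O T : W.Etale} (o : O ⟶ T) [IsOpenImmersion o.left] (hT : IsIso T.hom)
  (ho : ∀ z : T.left, z ∈ Set.range o.left ↔ T.hom z ∉ Set.range x)

include hx in
theorem isClosed_pt : IsClosed {(x ≫ w) default} := by
  have h : IsClosedImmersion ((x ≫ w) ≫ p) := by
    rw [Category.assoc, hx]
    infer_instance
  have h2 : IsClosedImmersion (x ≫ w) := IsClosedImmersion.of_comp (x ≫ w) p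
  have h3 := (x ≫ w).isClosedEmbedding.isClosed_range
  have h4 : Set.range (x ≫ w) = {(x ≫ w) default} := by
    ext z
    constructor
    · rintro ⟨y, rfl⟩
      rw [Subsingleton.elim y default]
      rfl
    · rintro rfl
      exact ⟨default, rfl⟩
  rw [← h4]
  exact h3

theorem mono_of_isOpenImmersion {W : Scheme.{u}} {O T : W.Etale} (o : O ⟶ T)
    [IsOpenImmersion o.left] : Mono o := by
  constructor
  intro Z a b hab
  apply MorphismProperty.Over.Hom.ext
  have h1 : a.left ≫ o.left = b.left ≫ o.left := congrArg (fun k => k.left) hab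
  exact (cancel_mono o.left).1 h1

/-- `T ⟶ W` in the etale site. -/
noncomputable abbrev tT {W : Scheme.{u}} (T : W.Etale) : T ⟶ EtCoh.top W :=
  (EtCore.topIsTerminal W).from T

theorem tT_left {W : Scheme.{u}} (T : W.Etale) : (tT T).left = T.hom := by
  have h := left_hom (tT T)
  exact (Category.comp_id _).symm.trans h

include hT in
theorem isIso_tT : IsIso (tT T) := by
  have h1 : IsIso (tT T).left := by
    rw [tT_left]
    exact hT
  refine ⟨MorphismProperty.Over.homMk (inv (tT T).left) ?_ trivial, ?_, ?_⟩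
  · rw [IsIso.inv_comp_eq]
    exact (left_hom (tT T)).symm
  · apply MorphismProperty.Over.Hom.ext
    exact IsIso.hom_inv_id _
  · apply MorphismProperty.Over.Hom.ext
    exact IsIso.inv_hom_id _

include hT ho in
theorem range_o : Set.range (o ≫ tT T).left = ({x default}ᶜ : Set W) := by
  have h0 : ∀ z : T.left, T.hom z ∉ Set.range x ↔ T.hom z ≠ x default := by
    intro z
    constructor
    · intro h h'
      exact h ⟨default, h'.symm⟩
    · rintro h ⟨y, hy⟩
      rw [Subsingleton.elim y default] at hy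
      exact h hy.symm
  have h1 : ∀ z : O.left, (o ≫ tT T).left z = T.hom (o.left z) := by
    intro z
    rw [comp_left, Scheme.Hom.comp_apply, tT_left]
    rfl
  ext z
  constructor
  · rintro ⟨y, rfl⟩
    rw [h1]
    exact (h0 _).1 ((ho _).1 ⟨y, rfl⟩)
  · intro hz
    obtain ⟨z', rfl⟩ := T.hom.surjective z
    obtain ⟨y, hy⟩ := (ho z').2 ((h0 z').2 hz)
    exact ⟨y, (h1 y).trans (by rw [hy])⟩

include hE hx hT ho in
/-- **(A1)** from duality, for a class section. -/
theorem bijective_cl_of_isClassSec (hD : DualTr w n N)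
    (s : EtCoh.sect ((EtShriek.extZero w).obj (ZQ o)) (EtCoh.top Y))
    (hs : haveI := isIso_tT hT; IsClassSec w (o ≫ tT T) x (sTop w o (tT T) s)) :
    Function.Bijective (fun u : Ext.{u + 1} (ZQ o) E N =>
      ((Ext.mk₀ (sHom s)).comp (u.mapExactFunctor (EtShriek.extZero w)) (zero_add N) :
        Ext.{u + 1} (ZS (EtCoh.top Y)) ((EtShriek.extZero w).obj E) N)) := by
  have := isIso_tT hT
  have hm : Mono o := mono_of_isOpenImmersion o
  have hm2 : Mono (o ≫ tT T) := inferInstance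
  have h1 := bijective_class w p (o ≫ tT T) x (range_o x o hT ho) (isClosed_pt p w x hx) n hD
    (sTop w o (tT T) s) hs E hE
  let A1 : Ext.{u + 1} (ZQ o) E N ≃ Ext.{u + 1} (Q ℤ (o ≫ tT T)) E N :=
    { toFun := fun y => (Ext.mk₀ (iota o (tT T)).inv).comp y (zero_add N)
      invFun := fun y => (Ext.mk₀ (iota o (tT T)).hom).comp y (zero_add N)
      left_inv := fun y => by
        dsimp only
        rw [Ext.mk₀_comp_mk₀_assoc, Iso.hom_inv_id, Ext.mk₀_id_comp]
      right_inv := fun y => by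
        dsimp only
        rw [Ext.mk₀_comp_mk₀_assoc, Iso.inv_hom_id, Ext.mk₀_id_comp] }
  let A2 : Ext.{u + 1} (ZS (EtCoh.top Y)) ((EtShriek.extZero w).obj E) N ≃
      Ext.{u + 1} (EtCoh.const Y ℤ) ((EtShriek.extZero w).obj E) N :=
    { toFun := fun y => (Ext.mk₀ (Sga4B.JFComp.topIso ℤ Y).inv).comp y (zero_add N)
      invFun := fun y => (Ext.mk₀ (Sga4B.JFComp.topIso ℤ Y).hom).comp y (zero_add N)
      left_inv := fun y => by
        dsimp only
        rw [Ext.mk₀_comp_mk₀_assoc, Iso.hom_inv_id, Ext.mk₀_id_comp]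
      right_inv := fun y => by
        dsimp only
        rw [Ext.mk₀_comp_mk₀_assoc, Iso.inv_hom_id, Ext.mk₀_id_comp] }
  have h2 : (fun y => A2 y) ∘ (fun u : Ext.{u + 1} (ZQ o) E N =>
      ((Ext.mk₀ (sHom s)).comp (u.mapExactFunctor (EtShriek.extZero w)) (zero_add N) :
        Ext.{u + 1} (ZS (EtCoh.top Y)) ((EtShriek.extZero w).obj E) N)) =
      classMap w (o ≫ tT T) (sTop w o (tT T) s) E N ∘ (fun y => A1 y) := by
    funext y
    change (Ext.mk₀ (Sga4B.JFComp.topIso ℤ Y).inv).comp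
        ((Ext.mk₀ (sHom s)).comp (y.mapExactFunctor (EtShriek.extZero w)) (zero_add N))
        (zero_add N) =
      (Ext.mk₀ (sTop w o (tT T) s)).comp (((Ext.mk₀ (iota o (tT T)).inv).comp y
        (zero_add N)).mapExactFunctor (EtShriek.extZero w)) (zero_add N)
    rw [Ext.mapExactFunctor_comp, Ext.mapExactFunctor_mk₀, Ext.mk₀_comp_mk₀_assoc,
      Ext.mk₀_comp_mk₀_assoc]
    refine congrArg (fun z => (Ext.mk₀ z).comp (y.mapExactFunctor (EtShriek.extZero w))
      (zero_add N)) ?_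
    unfold sTop
    rw [Category.assoc, Category.assoc, ← Functor.map_comp, Iso.hom_inv_id,
      CategoryTheory.Functor.map_id, Category.comp_id]
  have h3 := h1.comp A1.bijective
  rw [← h2] at h3
  exact (Function.Bijective.of_comp_iff' A2.bijective _).1 h3

include hE hx hT ho in
/-- **(A1)** from duality. -/
theorem bijective_cl_of_dualTr (hD : DualTr w n N) (m : (EtShriek.compEtale w).obj T ⟶ EtCoh.top Y)
    (s : EtCoh.sect ((EtShriek.extZero w).obj (ZQ o)) (EtCoh.top Y))
    (hs : ((EtShriek.extZero w).obj (ZQ o)).obj.map m.op s = (shCF w).un (qs o)) :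
    Function.Bijective (fun u : Ext.{u + 1} (ZQ o) E N =>
      ((Ext.mk₀ (sHom s)).comp (u.mapExactFunctor (EtShriek.extZero w)) (zero_add N) :
        Ext.{u + 1} (ZS (EtCoh.top Y)) ((EtShriek.extZero w).obj E) N)) :=
  haveI := isIso_tT hT
  bijective_cl_of_isClassSec p w E hE x hx o hT ho hD s (isClassSec_sTop w o (tT T) s x m hs)

include hE in
/-- **(A2)** from duality. -/
theorem nonempty_equiv_of_dualTr (hD : DualTr w n N) :
    Nonempty (Ext.{u + 1} (ZS (EtCoh.top Y)) ((EtShriek.extZero w).obj E) N ≃+ ZMod n) := by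
  obtain ⟨e⟩ := nonempty_equiv w n hD E hE
  let A2 : Ext.{u + 1} (ZS (EtCoh.top Y)) ((EtShriek.extZero w).obj E) N ≃+
      Ext.{u + 1} (EtCoh.const Y ℤ) ((EtShriek.extZero w).obj E) N :=
    { toFun := fun y => (Ext.mk₀ (Sga4B.JFComp.topIso ℤ Y).inv).comp y (zero_add N)
      invFun := fun y => (Ext.mk₀ (Sga4B.JFComp.topIso ℤ Y).hom).comp y (zero_add N)
      left_inv := fun y => by
        dsimp only
        rw [Ext.mk₀_comp_mk₀_assoc, Iso.hom_inv_id, Ext.mk₀_id_comp]
      right_inv := fun y => by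
        dsimp only
        rw [Ext.mk₀_comp_mk₀_assoc, Iso.inv_hom_id, Ext.mk₀_id_comp]
      map_add' := fun _ _ => Ext.comp_add _ _ _ _ }
  exact ⟨A2.trans e⟩

end main

end Groth.Agent.Etdl.H2.IfaceA
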