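import Groth.Agent.Sga4B.DualFormal
import Groth.Agent.Etcore.ExtAdj

/-!
# Transport of a duality along an adjunction of exact functors

`L ⊣ R` exact functors, `Ψ' ≅ L ⋙ Ψ`: a duality for `(Ψ, K, tr)` gives a duality for
`(Ψ', R K, trAdj)`.
-/

set_option autoImplicit false
set_option linter.unusedSectionVars false

universe w w' w'' v v' v'' u u' u'' t

open CategoryTheory CategoryTheory.Limits CategoryTheory.Abelian
open Groth.Agent.Sga4B.DualFormal Groth.Agent.Etcore.ExtAdj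

namespace Groth.Agent.Etdl.H2.PhiAdj

variable {A : Type u} [Category.{v} A] [Abelian A] [HasExt.{w} A] [EnoughInjectives A]
variable {A' : Type u'} [Category.{v'} A'] [Abelian A'] [HasExt.{w'} A'] [EnoughInjectives A']
variable {B : Type u''} [Category.{v''} B] [Abelian B] [HasExt.{w''} B]
variable {L : A ⥤ A'} {R : A' ⥤ A} (adj : L ⊣ R)
  [L.Additive] [PreservesFiniteLimits L] [PreservesFiniteColimits L]
  [R.Additive] [PreservesFiniteLimits R] [PreservesFiniteColimits R]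
variable (Ψ : A' ⥤ B) [Ψ.Additive] [PreservesFiniteLimits Ψ] [PreservesFiniteColimits Ψ]
variable (Ψ' : A ⥤ B) [Ψ'.Additive] [PreservesFiniteLimits Ψ'] [PreservesFiniteColimits Ψ']
variable (τ : L ⋙ Ψ ≅ Ψ') (Z : B) {K : A'} {N : ℕ} {E : Type t} [AddCommGroup E]
variable (tr : Ext.{w''} Z (Ψ.obj K) N →+ E)

/-- The map `Ψ' (R K) ⟶ Ψ K`. -/
def cou (K : A') : Ψ'.obj (R.obj K) ⟶ Ψ.obj K :=
  τ.inv.app (R.obj K) ≫ Ψ.map (adj.counit.app K)

/-- The trace `Ext^N(Z, Ψ' (R K)) → Ext^N(Z, Ψ K) → E`. -/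
noncomputable def trAdj : Ext.{w''} Z (Ψ'.obj (R.obj K)) N →+ E :=
  tr.comp ((Ext.mk₀ (cou adj Ψ Ψ' τ K)).postcomp Z (add_zero N))

theorem trAdj_apply (z : Ext.{w''} Z (Ψ'.obj (R.obj K)) N) :
    trAdj adj Ψ Ψ' τ Z tr z = tr (z.comp (Ext.mk₀ (cou adj Ψ Ψ' τ K)) (add_zero N)) := rfl

theorem assoc_aux {Z F F1 K0 K1 K2 : B} {m q N : ℕ} (h : m + q = N) (y : Ext.{w''} Z F m)
    (α : Ext.{w''} F K0 q) (s : F ⟶ F1) (α' : Ext.{w''} F1 K1 q) (t : K0 ⟶ K1) (β : K1 ⟶ K2)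
    (hh : α.comp (Ext.mk₀ t) (add_zero q) = (Ext.mk₀ s).comp α' (zero_add q)) :
    (y.comp α h).comp (Ext.mk₀ (t ≫ β)) (add_zero N) =
      (y.comp (Ext.mk₀ s) (add_zero m)).comp (α'.comp (Ext.mk₀ β) (add_zero q)) h := by
  rw [← Ext.mk₀_comp_mk₀, ← Ext.comp_assoc_of_third_deg_zero, Ext.comp_assoc_of_third_deg_zero y,
    hh, ← Ext.comp_assoc_of_third_deg_zero, ← Ext.comp_assoc_of_second_deg_zero]

/-- The duality map of `Ψ'` in terms of that of `Ψ`. -/
theorem phi_adj (F : A) {q m : ℕ} (h : m + q = N) (e : Ext.{w} F (R.obj K) q)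
    (y : Ext.{w''} Z (Ψ'.obj F) m) :
    phi Ψ' Z (trAdj adj Ψ Ψ' τ Z tr) F h e y =
      phi Ψ Z tr (L.obj F) h ((extAdj adj F K q).symm e)
        (y.comp (Ext.mk₀ (τ.inv.app F)) (add_zero m)) := by
  have i1 : (L ⋙ Ψ).Additive := inferInstance
  have i2 : PreservesFiniteLimits (L ⋙ Ψ) := comp_preservesFiniteLimits _ _
  have i3 : PreservesFiniteColimits (L ⋙ Ψ) := comp_preservesFiniteColimits _ _
  rw [phi_apply, phi_apply, trAdj_apply, extAdj_symm_apply]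
  have h1 : (e.mapExactFunctor Ψ').comp (Ext.mk₀ (τ.inv.app (R.obj K))) (add_zero q) =
      (Ext.mk₀ (τ.inv.app F)).comp (e.mapExactFunctor (L ⋙ Ψ)) (zero_add q) :=
    mapExactFunctor_nat (F := Ψ') (G := L ⋙ Ψ) τ.inv e
  have h2 : e.mapExactFunctor (L ⋙ Ψ) = (e.mapExactFunctor L).mapExactFunctor Ψ :=
    mapExactFunctor_compFunctor L Ψ e
  have h3 : ((e.mapExactFunctor L).comp (Ext.mk₀ (adj.counit.app K))
      (add_zero q)).mapExactFunctor Ψ = ((e.mapExactFunctor L).mapExactFunctor Ψ).comp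
        (Ext.mk₀ (Ψ.map (adj.counit.app K))) (add_zero q) := by
    rw [Ext.mapExactFunctor_comp, Ext.mapExactFunctor_mk₀]
  refine congrArg tr ?_
  rw [h3]
  exact assoc_aux h y _ _ _ _ _ (h1.trans (congrArg
    (fun z => (Ext.mk₀ (τ.inv.app F)).comp z (zero_add q)) h2))

/-- If the duality map is bijective for `Ψ` it is for `Ψ'`. -/
theorem bijective_phi (F : A) {q m : ℕ} (h : m + q = N)
    (hb : Function.Bijective (phi Ψ Z tr (L.obj F) h)) :
    Function.Bijective (phi Ψ' Z (trAdj adj Ψ Ψ' τ Z tr) F h) := by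
  let pre : Ext.{w''} Z (Ψ'.obj F) m ≃+ Ext.{w''} Z (Ψ.obj (L.obj F)) m :=
    { toFun := fun y => y.comp (Ext.mk₀ (τ.inv.app F)) (add_zero m)
      invFun := fun y => y.comp (Ext.mk₀ (τ.hom.app F)) (add_zero m)
      left_inv := fun y => by
        dsimp only
        rw [Ext.comp_assoc_of_third_deg_zero, Ext.mk₀_comp_mk₀, Iso.inv_hom_id_app,
          Ext.comp_mk₀_id]
      right_inv := fun y => by
        dsimp only
        rw [Ext.comp_assoc_of_third_deg_zero, Ext.mk₀_comp_mk₀, Iso.hom_inv_id_app]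
        exact Ext.comp_mk₀_id _
      map_add' := fun _ _ => Ext.add_comp _ _ _ _ }
  have h1 : (phi Ψ' Z (trAdj adj Ψ Ψ' τ Z tr) F h : _ → _) =
      (fun c : Ext.{w''} Z (Ψ.obj (L.obj F)) m →+ E => c.comp pre.toAddMonoidHom) ∘
        (phi Ψ Z tr (L.obj F) h) ∘ (extAdj adj F K q).symm := by
    funext e
    ext y
    exact phi_adj adj Ψ Ψ' τ Z tr F h e y
  rw [h1]
  refine Function.Bijective.comp ?_ (hb.comp (AddEquiv.bijective _))
  refine Function.bijective_iff_has_inverse.2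
    ⟨fun c => c.comp pre.symm.toAddMonoidHom, fun c => ?_, fun c => ?_⟩
  · ext y
    exact congrArg c (pre.apply_symm_apply y)
  · ext y
    exact congrArg c (pre.symm_apply_apply y)

end Groth.Agent.Etdl.H2.PhiAdj
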