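import Groth.Agent.Etdl.H2.SuppPt
import Groth.Agent.Etdl.H2.StalkCoker
import Groth.Agent.Etcore.ShriekStalk
import Groth.Agent.Etcore.ShriekBasic

/-!
# `v_! (M[U] / M[U₀])` for `v : V ⟶ P` etale

* `isoQ : v_! (M[U] / M[U₀]) ≅ M[U]/ M[U₀]` on `P`;
* for `P` locally of finite type over `k` algebraically closed, `x : Spec k ⟶ V` a `k`-point with closed image, `U₀`
  the complement of `x` in `V`: `vanOff` and `bijective_germ` (the stalk of `v_! (M[V] / M[U₀])` at `v x` is `M`).
-/

set_option autoImplicit false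
set_option linter.unusedSectionVars false
universe u

open CategoryTheory CategoryTheory.Limits AlgebraicGeometry Opposite
open Groth.Agent.EtpbcA Groth.Agent.EtpbcA.StalkTools Groth.Agent.Sga4B.DualShape
open Groth.Agent.Etdl.H2.StalkCoker Groth.Agent.Etdl.H2.SuppPt

namespace Groth.Agent.Etdl.H2.ShriekQ

section iso

variable {V P : Scheme.{u}} (v : V ⟶ P) [Etale v] (M : Type) [AddCommGroup M]
  {U₀ U : V.Etale} (g : U₀ ⟶ U)

/-- The canonical section of `v_! (M[U] / M[U₀])` over `U → V → P`. -/
noncomputable def vsec : M →+ EtCoh.sect ((EtShriek.extZero v).obj (Q M g))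
    ((EtShriek.compEtale v).obj U) :=
  (((EtShriek.extZeroAdj v).unit.app (Q M g)).hom.app (op U)).hom.comp (qsec M g)

theorem vsec_apply (m : M) : vsec v M g m =
    ((EtShriek.extZeroAdj v).unit.app (Q M g)).hom.app (op U) (qsec M g m) := rfl

theorem map_vsec (m : M) : ((EtShriek.extZero v).obj (Q M g)).obj.map
    ((EtShriek.compEtale v).map g).op (vsec v M g m) = 0 := by
  have h1 := ConcreteCategory.congr_hom
    (((EtShriek.extZeroAdj v).unit.app (Q M g)).hom.naturality g.op) (qsec M g m)
  refine Eq.trans h1.symm ?_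
  change ((EtShriek.extZeroAdj v).unit.app (Q M g)).hom.app (op U₀)
    ((Q M g).obj.map g.op (qsec M g m)) = 0
  rw [map_qsec]
  exact map_zero _

/-- `M[U]/M[U₀]` on `P` maps to `v_! (M[U] / M[U₀])`. -/
noncomputable def fromQ : Q M ((EtShriek.compEtale v).map g) ⟶ (EtShriek.extZero v).obj (Q M g) :=
  desc M _ (vsec v M g) (map_vsec v M g)

theorem fromQ_qsec (m : M) : (fromQ v M g).hom.app (op ((EtShriek.compEtale v).obj U))
    (qsec M ((EtShriek.compEtale v).map g) m) = vsec v M g m := desc_qsec _ _ _ _ _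

/-- `v_! (M[U] / M[U₀])` maps to `M[U]/M[U₀]` on `P`. -/
noncomputable def toQ : (EtShriek.extZero v).obj (Q M g) ⟶ Q M ((EtShriek.compEtale v).map g) :=
  ((EtShriek.extZeroAdj v).homEquiv _ _).symm
    (desc M g (G := (EtShriek.restrAlong v).obj (Q M ((EtShriek.compEtale v).map g)))
      (qsec M ((EtShriek.compEtale v).map g)) (map_qsec M ((EtShriek.compEtale v).map g)))

theorem toQ_vsec (m : M) : (toQ v M g).hom.app (op ((EtShriek.compEtale v).obj U))
    (vsec v M g m) = qsec M ((EtShriek.compEtale v).map g) m := by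
  have h := ((EtShriek.extZeroAdj v).homEquiv _ _).apply_symm_apply
    (desc M g (G := (EtShriek.restrAlong v).obj (Q M ((EtShriek.compEtale v).map g)))
      (qsec M ((EtShriek.compEtale v).map g)) (map_qsec M ((EtShriek.compEtale v).map g)))
  rw [Adjunction.homEquiv_unit] at h
  have h2 := congrArg (fun k => k.hom.app (op U) (qsec M g m)) h
  exact h2.trans (desc_qsec M g _ _ m)

/-- Morphisms from `v_! (M[U] / M[U₀])` are determined by the values on the canonical sections. -/
theorem vhom_ext {G : EtCoh.Ab P} {α β : (EtShriek.extZero v).obj (Q M g) ⟶ G}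
    (h : ∀ m, α.hom.app (op ((EtShriek.compEtale v).obj U)) (vsec v M g m) =
      β.hom.app (op ((EtShriek.compEtale v).obj U)) (vsec v M g m)) : α = β := by
  apply ((EtShriek.extZeroAdj v).homEquiv _ _).injective
  rw [Adjunction.homEquiv_unit, Adjunction.homEquiv_unit]
  exact StalkCoker.hom_ext M g h

/-- `v_! (M[U] / M[U₀]) ≅ M[U]/M[U₀]` on `P`. -/
noncomputable def isoQ : (EtShriek.extZero v).obj (Q M g) ≅ Q M ((EtShriek.compEtale v).map g) where
  hom := toQ v M g
  inv := fromQ v M g
  hom_inv_id := by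
    apply vhom_ext
    intro m
    change (fromQ v M g).hom.app _ ((toQ v M g).hom.app _ _) = _
    rw [toQ_vsec, fromQ_qsec]
    rfl
  inv_hom_id := by
    apply StalkCoker.hom_ext
    intro m
    change (toQ v M g).hom.app _ ((fromQ v M g).hom.app _ _) = _
    rw [fromQ_qsec, toQ_vsec]
    rfl

end iso

section point

variable {k : Type u} [Field k] [IsAlgClosed k] {V P : Scheme.{u}} (v : V ⟶ P) [Etale v]
  (a : P ⟶ Spec (CommRingCat.of k)) [LocallyOfFiniteType a]
  (M : Type) [AddCommGroup M] {U₀ : V.Etale} (g : U₀ ⟶ EtCoh.top V)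
  (x : Spec (CommRingCat.of k) ⟶ V)
  (hx : Set.range g.left = ({x default}ᶜ : Set V))

/-- The point of the etale `P`-scheme `V` given by `x`. -/
noncomputable def vpt : (Scheme.pointSmallEtale (x ≫ v)).fiber.obj
    ((EtShriek.compEtale v).obj (EtCoh.top V)) :=
  (Etcore.ShriekStalk.fiberHom v (x ≫ v) x rfl).app (EtCoh.top V) (topPt x)

theorem fibPt_vpt : fibPt (x ≫ v) (vpt v x) = x default := rfl

variable {v}

/-- Points of `V → P` which are not `x` come from `U₀`. -/
theorem exists_lift_of_ne {Ω : Type u} [Field Ω] [IsSepClosed Ω] (η : Spec (CommRingCat.of Ω) ⟶ P)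
    (t : (Scheme.pointSmallEtale η).fiber.obj ((EtShriek.compEtale v).obj (EtCoh.top V)))
    (hx : Set.range g.left = ({x default}ᶜ : Set V)) (ht : fibPt η t ≠ x default) :
    ∃ y, (Scheme.pointSmallEtale η).fiber.map ((EtShriek.compEtale v).map g) y = t := by
  have h1 : fibPt η t ∈ Set.range g.left := by
    rw [hx]
    exact ht
  obtain ⟨z, hz⟩ := h1
  obtain ⟨y, hy, -⟩ := exists_fib_lift η ((EtShriek.compEtale v).map g) t z hz
  exact ⟨y, hy⟩

theorem hom_fibPt' {Ω : Type u} [Field Ω] [IsSepClosed Ω] (η : Spec (CommRingCat.of Ω) ⟶ P)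
    (t : (Scheme.pointSmallEtale η).fiber.obj ((EtShriek.compEtale v).obj (EtCoh.top V))) :
    v (fibPt η t) = η default := by
  have h := hom_fibPt η t
  have h2 : ((EtShriek.compEtale v).obj (EtCoh.top V)).hom = v := Category.id_comp v
  rw [← h]
  exact (congrArg (fun (l : V ⟶ P) => l (fibPt η t)) h2).symm

variable (v)

include hx in
theorem vanOff : VanOff ((EtShriek.extZero v).obj (Q M g)) ((x ≫ v) default) := by
  refine vanOff_of_isZero_stalk _ _ (fun Ω _ _ η hη => ?_)
  refine IsZero.of_iso ?_ ((EtCoh.stalk η).mapIso (isoQ v M g))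
  refine isZero_stalk M _ η (fun t => exists_lift_of_ne g x η t hx (fun h => hη ?_))
  rw [← hom_fibPt' η t, h]
  exact (Scheme.Hom.comp_apply x v _).symm

include a hx in
theorem bijective_germ (hcl : IsClosed {(x ≫ v) default}) :
    Function.Bijective (fun m : M => germ (x ≫ v) (vpt v x) (vsec v M g m)) := by
  have h0 := StalkCoker.bijective_germ M ((EtShriek.compEtale v).map g) (x ≫ v) (vpt v x)
    (fun y hy => by
      have h1 : fibPt (x ≫ v) ((Scheme.pointSmallEtale (x ≫ v)).fiber.map
        ((EtShriek.compEtale v).map g) y) = x default := by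
        rw [hy]
        rfl
      have h2 : x default ∈ Set.range g.left := ⟨fibPt (x ≫ v) y, h1⟩
      rw [hx] at h2
      exact h2 rfl)
    (fun t ht => exists_lift_of_ne g x (x ≫ v) t hx (fun h => ht ?_))
  · have h1 : IsIso ((EtCoh.stalk (x ≫ v)).map (isoQ v M g).hom) := inferInstance
    have h2 : Function.Bijective ((EtCoh.stalk (x ≫ v)).map (isoQ v M g).hom) :=
      ConcreteCategory.bijective_of_isIso _
    have h3 : (fun m : M => germ (x ≫ v) (vpt v x) (qsec M ((EtShriek.compEtale v).map g) m)) =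
        (EtCoh.stalk (x ≫ v)).map (isoQ v M g).hom ∘
          (fun m : M => germ (x ≫ v) (vpt v x) (vsec v M g m)) := by
      funext m
      refine Eq.trans ?_ (stalk_map_germ (x ≫ v) (isoQ v M g).hom (vpt v x) (vsec v M g m)).symm
      exact congrArg _ (toQ_vsec v M g m).symm
    rw [h3] at h0
    exact (Function.Bijective.of_comp_iff' h2 _).1 h0
  · -- uniqueness of the geometric point
    apply Over.OverMorphism.ext
    have e1 : t.left ≫ ((EtShriek.compEtale v).obj (EtCoh.top V)).hom = x ≫ v := Over.w t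
    have e2 : (vpt v x).left ≫ ((EtShriek.compEtale v).obj (EtCoh.top V)).hom = x ≫ v :=
      Over.w (vpt v x)
    have hE : Etale ((EtShriek.compEtale v).obj (EtCoh.top V)).hom :=
      ((EtShriek.compEtale v).obj (EtCoh.top V)).prop
    have hcl' : IsClosed ({fibPt (x ≫ v) t} : Set ((EtShriek.compEtale v).obj (EtCoh.top V)).left) := by
      refine isClosed_subset_fibre _ hcl _ ?_
      rintro _ rfl
      exact hom_fibPt (x ≫ v) t
    refine Sga4h.BidGlobSky.spec_ext (((EtShriek.compEtale v).obj (EtCoh.top V)).hom ≫ a) t.left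
      (vpt v x).left h hcl' ?_
    exact (Category.assoc _ _ _).symm.trans ((congrArg (fun z => z ≫ a) (e1.trans e2.symm)).trans
      (Category.assoc _ _ _))

end point

end Groth.Agent.Etdl.H2.ShriekQ
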