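import Groth.Agent.Etbase.EtGlue
import Groth.Agent.Etbase.EtSections
import Groth.Agent.EtpbcA.StalkTools
import Groth.Agent.Sga4h.BidGlobSky

/-!
# Sections of a sheaf supported at a rational point over an algebraically closed field

`bijective_germ`: `P` locally of finite type over `k` algebraically closed, `ξ : Spec k ⟶ P` a section with closed
image `p`, `D` an abelian sheaf on the small etale site of `P` without sections on the etale `P`-schemes without
points over `p`; then `Γ(P, D) → D_ξ` is bijective.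
-/

set_option autoImplicit false
set_option linter.unusedSectionVars false
universe u

open CategoryTheory CategoryTheory.Limits AlgebraicGeometry Opposite
open Groth.Agent.EtpbcA.StalkTools Groth.Agent.Etbase Groth.Agent.Etbase.EtSections

namespace Groth.Agent.Etdl.H2.SuppPt

/-- The tautological geometric point of `X` over `ξ`. -/
noncomputable def topPt {X : Scheme.{u}} {Ω : Type u} [Field Ω] [IsSepClosed Ω]
    (ξ : Spec (CommRingCat.of Ω) ⟶ X) : (Scheme.pointSmallEtale ξ).fiber.obj (EtCoh.top X) :=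
  Over.homMk ξ (Category.comp_id _)

theorem eq_topPt {X : Scheme.{u}} {Ω : Type u} [Field Ω] [IsSepClosed Ω]
    (ξ : Spec (CommRingCat.of Ω) ⟶ X) (t : (Scheme.pointSmallEtale ξ).fiber.obj (EtCoh.top X)) :
    t = topPt ξ := by
  have h := Over.w t
  apply Over.OverMorphism.ext
  exact (Category.comp_id _).symm.trans h

theorem hom_fibPt {X : Scheme.{u}} {Ω : Type u} [Field Ω] [IsSepClosed Ω]
    (ξ : Spec (CommRingCat.of Ω) ⟶ X) {T : X.Etale} (t : (Scheme.pointSmallEtale ξ).fiber.obj T) :
    T.hom (fibPt ξ t) = ξ default := by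
  have h : t.left ≫ T.hom = ξ := Over.w t
  exact (Scheme.Hom.comp_apply t.left T.hom _).symm.trans
    (congrArg (fun (l : Spec (CommRingCat.of Ω) ⟶ X) => l default) h)

/-- `D` has no nonzero sections off `p`. -/
def VanOff {X : Scheme.{u}} (D : EtCoh.Ab X) (p : X) : Prop :=
  ∀ T : X.Etale, (∀ t : T.left, T.hom t ≠ p) → ∀ s : EtCoh.sect D T, s = 0

/-- A sheaf with zero stalks off `p` has no sections off `p`. -/
theorem vanOff_of_isZero_stalk {X : Scheme.{u}} (D : EtCoh.Ab X) (p : X)
    (h : ∀ (Ω : Type u) [Field Ω] [IsSepClosed Ω] (η : Spec (CommRingCat.of Ω) ⟶ X),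
      η default ≠ p → IsZero ((EtCoh.stalk η).obj D)) : VanOff D p := by
  intro T hT s
  refine eq_zero_of_vanishesAt D T s (fun x => ?_)
  obtain ⟨Ω, _, _, ζ, rfl⟩ := exists_geomPt x
  have hz : IsZero ((EtCoh.stalk (ζ ≫ T.hom)).obj D) := by
    refine h Ω _ ?_
    rw [Scheme.Hom.comp_apply]
    exact hT _
  have hsub : Subsingleton ((EtCoh.stalk (ζ ≫ T.hom)).obj D) :=
    AddCommGrpCat.subsingleton_of_isZero hz
  have h1 : germ (ζ ≫ T.hom) (fibMk ζ) s = germ (ζ ≫ T.hom) (fibMk ζ) 0 := Subsingleton.elim _ _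
  obtain ⟨V, g, y, hy, e⟩ := (germ_eq_iff (ζ ≫ T.hom) (fibMk ζ) s 0).1 h1
  refine ⟨V, g, fibPt _ y, ?_, e.trans (map_zero _)⟩
  rw [← fibPt_map, hy]
  rfl

section main

variable {k : Type u} [Field k] [IsAlgClosed k] {P : Scheme.{u}}
  (g : P ⟶ Spec (CommRingCat.of k)) [LocallyOfFiniteType g] (ξ : Spec (CommRingCat.of k) ⟶ P)
  (hp : IsClosed {ξ default})

/-- The fibres of an etale morphism over a closed point are discrete closed subsets. -/
theorem isClosed_subset_fibre {X : Scheme.{u}} (T : X.Etale) {p : X} (hp : IsClosed {p})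
    (B : Set T.left) (hB : B ⊆ T.hom ⁻¹' {p}) : IsClosed B := by
  have : Etale T.hom := T.prop
  have : LocallyQuasiFinite T.hom := Desc.LQF.of_etale T.hom
  have hd := T.hom.isDiscrete_preimage_singleton p
  have hc : IsClosed (T.hom ⁻¹' {p}) := hp.preimage T.hom.continuous
  have : DiscreteTopology ↥(T.hom ⁻¹' {p}) := hd.1
  have h2 : IsClosed ((Subtype.val : ↥(T.hom ⁻¹' {p}) → T.left) ⁻¹' B) := isClosed_discrete _
  have h3 := hc.isClosedEmbedding_subtypeVal.isClosedMap _ h2
  rwa [Set.image_preimage_eq_inter_range, Subtype.range_coe, Set.inter_eq_left.2 hB] at h3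

include g hp in
/-- Etale neighbourhoods of `ξ` can be shrunk so that they have only one point over `p`. -/
theorem exists_shrink {T : P.Etale} (t : (Scheme.pointSmallEtale ξ).fiber.obj T) :
    ∃ (T' : P.Etale) (f : T' ⟶ T) (t' : (Scheme.pointSmallEtale ξ).fiber.obj T'),
      (Scheme.pointSmallEtale ξ).fiber.map f t' = t ∧
      (∀ y : (Scheme.pointSmallEtale ξ).fiber.obj T', y = t') ∧
      (∀ z : T'.left, T'.hom z = ξ default → z = fibPt ξ t') := by
  let B : Set T.left := (T.hom ⁻¹' {ξ default}) \ {fibPt ξ t}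
  have hB : IsClosed B := isClosed_subset_fibre T hp B Set.sdiff_subset
  let W : T.left.Opens := ⟨Bᶜ, hB.isOpen_compl⟩
  have hW : fibPt ξ t ∈ W := fun h => h.2 rfl
  obtain ⟨t', ht', -⟩ := exists_fib_lift ξ (EtGlue.opnι T W) t ⟨fibPt ξ t, hW⟩ rfl
  have huniq : ∀ z : (EtGlue.opn T W).left, (EtGlue.opn T W).hom z = ξ default →
      z = fibPt ξ t' := by
    intro z hz
    have h1 : ∀ y : (EtGlue.opn T W).left, (EtGlue.opn T W).hom y = ξ default →
        (EtGlue.opnι T W).left y = fibPt ξ t := by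
      intro y hy
      have hyW : (EtGlue.opnι T W).left y ∈ W := y.2
      have hyp : T.hom ((EtGlue.opnι T W).left y) = ξ default := by
        rw [← hy]
        rfl
      by_contra hne
      exact hyW ⟨hyp, hne⟩
    have h2 := h1 z hz
    have h3 := h1 (fibPt ξ t') (hom_fibPt ξ t')
    exact W.ι.isOpenEmbedding.injective (h2.trans h3.symm)
  refine ⟨EtGlue.opn T W, EtGlue.opnι T W, t', ht', fun y => ?_, huniq⟩
  have hy := huniq (fibPt ξ y) (hom_fibPt ξ y)
  apply Over.OverMorphism.ext
  have hU : Etale (EtGlue.opn T W).hom := (EtGlue.opn T W).prop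
  have h1 : y.left ≫ (EtGlue.opn T W).hom = ξ := Over.w y
  have h2 : t'.left ≫ (EtGlue.opn T W).hom = ξ := Over.w t'
  have hcl : IsClosed ({fibPt ξ y} : Set (EtGlue.opn T W).left) := by
    refine isClosed_subset_fibre _ hp _ ?_
    rintro _ rfl
    exact hom_fibPt ξ y
  refine Sga4h.BidGlobSky.spec_ext ((EtGlue.opn T W).hom ≫ g) y.left t'.left hy hcl ?_
  exact (Category.assoc _ _ _).symm.trans ((congrArg (fun z => z ≫ g) (h1.trans h2.symm)).trans
    (Category.assoc _ _ _))

variable {ξ} {D : EtCoh.Ab P}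

include hp in
/-- Vanishing of a section at the points off `p`. -/
theorem vanishesAt_of_ne (hD : VanOff D (ξ default)) (T : P.Etale) (s : EtCoh.sect D T)
    (x : T.left) (hx : T.hom x ≠ ξ default) : VanishesAt D T s x := by
  have hc : IsClosed (T.hom ⁻¹' {ξ default}) := hp.preimage T.hom.continuous
  let W : T.left.Opens := ⟨(T.hom ⁻¹' {ξ default})ᶜ, hc.isOpen_compl⟩
  exact ⟨EtGlue.opn T W, EtGlue.opnι T W, ⟨x, hx⟩, rfl, hD _ (fun (t : (EtGlue.opn T W).left) => t.2) _⟩

include hp in
theorem eq_zero_of_germ (hD : VanOff D (ξ default)) (s : EtCoh.sect D (EtCoh.top P))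
    (h : germ ξ (topPt ξ) s = 0) : s = 0 := by
  refine eq_zero_of_vanishesAt D _ s (fun x => ?_)
  by_cases hx : (EtCoh.top P).hom x = ξ default
  · have h1 : germ ξ (topPt ξ) s = germ ξ (topPt ξ) 0 := h.trans (map_zero _).symm
    obtain ⟨V, f, y, hy, e⟩ := (germ_eq_iff ξ (topPt ξ) s 0).1 h1
    refine ⟨V, f, fibPt ξ y, ?_, e.trans (map_zero _)⟩
    rw [← fibPt_map, hy]
    exact hx.symm
  · exact vanishesAt_of_ne hp hD _ s x hx

include g hp in
theorem exists_section (hD : VanOff D (ξ default)) (a : (EtCoh.stalk ξ).obj D) :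
    ∃ s : EtCoh.sect D (EtCoh.top P), germ ξ (topPt ξ) s = a := by
  obtain ⟨T₀, t₀, s₀, rfl⟩ := germ_surj ξ a
  obtain ⟨T, f, t, ht, htu, htz⟩ := exists_shrink g ξ hp t₀
  let O : (EtCoh.top P).left.Opens := ⟨((EtCoh.top P).hom ⁻¹' {ξ default})ᶜ,
    (hp.preimage (EtCoh.top P).hom.continuous).isOpen_compl⟩
  let a : T ⟶ EtCoh.top P := (EtCore.topIsTerminal P).from T
  let b : EtGlue.opn (EtCoh.top P) O ⟶ EtCoh.top P := EtGlue.opnι (EtCoh.top P) O
  let Y : Bool → P.Etale := fun i => Bool.rec (EtGlue.opn (EtCoh.top P) O) T i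
  let F : ∀ i, Y i ⟶ EtCoh.top P := fun i => match i with
    | true => a
    | false => b
  let S : ∀ i, D.obj.obj (op (Y i)) := fun i => match i with
    | true => D.obj.map f.op s₀
    | false => 0
  have hempty : ∀ (Z : P.Etale) (_ : Z ⟶ EtGlue.opn (EtCoh.top P) O) (z : Z.left),
      Z.hom z ≠ ξ default := by
    intro Z c z hz
    have h1 : (EtGlue.opn (EtCoh.top P) O).hom (c.left z) = Z.hom z := by
      rw [← Scheme.Hom.comp_apply]
      exact congrArg (fun (l : Z.left ⟶ P) => l z) (Over.w c.hom)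
    exact (c.left z).2 (h1.trans hz)
  obtain ⟨s, hs, -⟩ := EtGlue.existsUnique_glue D F (by
      ext x
      simp only [Set.mem_iUnion, Set.mem_range, Set.mem_univ, iff_true]
      by_cases hx : (EtCoh.top P).hom x = ξ default
      · refine ⟨true, fibPt ξ t, ?_⟩
        have h1 : a.left (fibPt ξ t) = fibPt ξ ((Scheme.pointSmallEtale ξ).fiber.map a t) :=
          (fibPt_map ξ a t).symm
        refine h1.trans ?_
        rw [eq_topPt ξ ((Scheme.pointSmallEtale ξ).fiber.map a t)]
        exact hx.symm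
      · exact ⟨false, ⟨x, hx⟩, rfl⟩) S (by
      rintro (_ | _) (_ | _) Z gi gj hg
      · exact (map_zero _).trans (map_zero _).symm
      · exact (hD Z (hempty Z gi) _).trans (hD Z (hempty Z gi) _).symm
      · exact (hD Z (hempty Z gj) _).trans (hD Z (hempty Z gj) _).symm
      · rw [← sub_eq_zero]
        refine eq_zero_of_vanishesAt D Z _ (fun z => ?_)
        by_cases hz : Z.hom z = ξ default
        · obtain ⟨y, -, hy⟩ := exists_fib_lift ξ ((EtCore.topIsTerminal P).from Z) (topPt ξ) z (by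
            have h1 : ((EtCore.topIsTerminal P).from Z).left ≫ (EtCoh.top P).hom = Z.hom :=
              Over.w ((EtCore.topIsTerminal P).from Z).hom
            have h2 : ((EtCore.topIsTerminal P).from Z).left z = Z.hom z := by
              rw [← h1]
              rfl
            exact h2.trans hz)
          have e1 : germ ξ y (D.obj.map gi.op (D.obj.map f.op s₀)) =
              germ ξ y (D.obj.map gj.op (D.obj.map f.op s₀)) := by
            refine (germ_res ξ gi y _).trans (Eq.trans ?_ (germ_res ξ gj y _).symm)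
            exact congrArg (fun z => germ ξ z (D.obj.map f.op s₀))
              ((htu ((Scheme.pointSmallEtale ξ).fiber.map gi y)).trans
                (htu ((Scheme.pointSmallEtale ξ).fiber.map gj y)).symm)
          obtain ⟨V, q, w, hw, e⟩ := (germ_eq_iff ξ y _ _).1 e1
          refine ⟨V, q, fibPt ξ w, ?_, ?_⟩
          · rw [← fibPt_map, hw, hy]
          · rw [map_sub, sub_eq_zero]
            exact e
        · exact vanishesAt_of_ne hp hD Z _ z hz)
  refine ⟨s, ?_⟩
  have h1 : D.obj.map a.op s = D.obj.map f.op s₀ := hs true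
  have h2 : germ ξ t (D.obj.map a.op s) = germ ξ ((Scheme.pointSmallEtale ξ).fiber.map a t) s :=
    germ_res ξ a t s
  rw [eq_topPt ξ ((Scheme.pointSmallEtale ξ).fiber.map a t), h1, germ_res, ht] at h2
  exact h2.symm

include g hp in
/-- For a sheaf `D` supported at the rational point `ξ`, `Γ(P, D) → D_ξ` is bijective. -/
theorem bijective_germ (hD : VanOff D (ξ default)) :
    Function.Bijective (fun s : EtCoh.sect D (EtCoh.top P) => germ ξ (topPt ξ) s) := by
  refine ⟨fun s s' h => ?_, fun a => exists_section g hp hD a⟩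
  rw [← sub_eq_zero]
  apply eq_zero_of_germ hp hD
  have h1 : germ ξ (topPt ξ) (s - s') = germ ξ (topPt ξ) s - germ ξ (topPt ξ) s' := map_sub _ _ _
  rw [h1, sub_eq_zero]
  exact h

end main

end Groth.Agent.Etdl.H2.SuppPt
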